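import Mathlib

/-!
# Eigenvalues of matrices of finite order prime to the characteristic
-/

set_option autoImplicit false

namespace CfsgLib.Classical.EigenOrbit

variable {K : Type*} [Field K] [IsAlgClosed K] {ι : Type*} [Fintype ι] [DecidableEq ι]

theorem exists_eigen_family (M : Matrix ι ι K) {N : ℕ} (hN : (N : K) ≠ 0) (hM : M ^ N = 1) :
    ∃ (b : Module.Basis ι K (ι → K)) (d : ι → K), ∀ i, M.mulVec (b i) = d i • b i := by
  classical
  set f : Module.End K (ι → K) := Matrix.toLinAlgEquiv' M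
  have hf : f ^ N = 1 := by rw [← map_pow, hM, map_one]
  have hsq : Squarefree (Polynomial.X ^ N - Polynomial.C (1 : K)) :=
    (Polynomial.separable_X_pow_sub_C 1 hN one_ne_zero).squarefree
  have hss : f.IsSemisimple := Module.End.isSemisimple_of_squarefree_aeval_eq_zero hsq (by simp [hf])
  let s : Set (ι → K) := {v | ∃ μ : K, f v = μ • v}
  have hs : ⊤ ≤ Submodule.span K s := by
    rw [← hss.iSup_eigenspace_eq_top]
    exact iSup_le fun μ v hv => Submodule.subset_span ⟨μ, Module.End.mem_eigenspace_iff.mp hv⟩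
  let B := Module.Basis.ofSpan hs
  let b := B.reindex (B.indexEquiv (Pi.basisFun K ι))
  have hb : ∀ i, ∃ μ : K, M.mulVec (b i) = μ • b i := by
    intro i
    simp only [b, Module.Basis.reindex_apply]
    exact Module.Basis.ofSpan_subset hs (Set.mem_range_self _)
  choose d hd using hb
  exact ⟨b, d, hd⟩

/-- A matrix of finite order prime to the characteristic is diagonalisable. -/
theorem exists_diag (M : Matrix ι ι K) {N : ℕ} (hN : (N : K) ≠ 0) (hM : M ^ N = 1) :
    ∃ (P : (Matrix ι ι K)ˣ) (d : ι → K), M = (P : Matrix ι ι K) * Matrix.diagonal d * ((P⁻¹ : (Matrix ι ι K)ˣ) : Matrix ι ι K) := by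
  obtain ⟨b, d, hd⟩ := exists_eigen_family M hN hM
  set P : Matrix ι ι K := (Pi.basisFun K ι).toMatrix b
  have hP : ∀ i j, P i j = b j i := fun i j => by simp [P, Module.Basis.toMatrix_apply]
  let PU : (Matrix ι ι K)ˣ := ⟨P, b.toMatrix (Pi.basisFun K ι),
    Module.Basis.toMatrix_mul_toMatrix_flip _ _, Module.Basis.toMatrix_mul_toMatrix_flip _ _⟩
  refine ⟨PU, d, (Units.eq_mul_inv_iff_mul_eq PU).2 ?_⟩
  ext i j
  show (M * P) i j = (P * Matrix.diagonal d) i j
  rw [Matrix.mul_diagonal, hP, Matrix.mul_apply]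
  have := congrFun (hd j) i
  simpa [Matrix.mulVec, dotProduct, hP, mul_comm] using this

omit [IsAlgClosed K] in
theorem roots_charpoly_conj_diag (P : (Matrix ι ι K)ˣ) (d : ι → K) :
    ((P : Matrix ι ι K) * Matrix.diagonal d * ((P⁻¹ : (Matrix ι ι K)ˣ) : Matrix ι ι K) : Matrix ι ι K).charpoly.roots = Finset.univ.val.map d := by
  rw [Matrix.coe_units_inv, Matrix.charpoly_units_conj, Matrix.charpoly_diagonal, Finset.prod_eq_multiset_prod,
    ← Polynomial.roots_multiset_prod_X_sub_C (Finset.univ.val.map d), Multiset.map_map]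
  rfl

omit [IsAlgClosed K] in
theorem conj_pow_diag (P : (Matrix ι ι K)ˣ) (d : ι → K) (j : ℕ) :
    ((P : Matrix ι ι K) * Matrix.diagonal d * ((P⁻¹ : (Matrix ι ι K)ˣ) : Matrix ι ι K) : Matrix ι ι K) ^ j = (P : Matrix ι ι K) * Matrix.diagonal (d ^ j) * ((P⁻¹ : (Matrix ι ι K)ˣ) : Matrix ι ι K) := by
  rw [Units.conj_pow, Matrix.diagonal_pow]

/-- The eigenvalues of a power. -/
theorem roots_charpoly_pow (M : Matrix ι ι K) {N : ℕ} (hN : (N : K) ≠ 0) (hM : M ^ N = 1) (j : ℕ) :
    (M ^ j).charpoly.roots = M.charpoly.roots.map (· ^ j) := by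
  obtain ⟨P, d, rfl⟩ := exists_diag M hN hM
  rw [conj_pow_diag, roots_charpoly_conj_diag, roots_charpoly_conj_diag, Multiset.map_map]
  rfl

omit [IsAlgClosed K] in
theorem card_roots_charpoly_conj (P : (Matrix ι ι K)ˣ) (d : ι → K) :
    Multiset.card ((P : Matrix ι ι K) * Matrix.diagonal d * ((P⁻¹ : (Matrix ι ι K)ˣ) : Matrix ι ι K) : Matrix ι ι K).charpoly.roots = Fintype.card ι := by
  rw [roots_charpoly_conj_diag, Multiset.card_map]
  rfl

theorem card_roots (M : Matrix ι ι K) : Multiset.card M.charpoly.roots = Fintype.card ι := by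
  rw [← (IsAlgClosed.splits M.charpoly).natDegree_eq_card_roots, Matrix.charpoly_natDegree_eq_dim]

theorem pow_eq_one_of_roots (M : Matrix ι ι K) {N : ℕ} (hN : (N : K) ≠ 0) (hM : M ^ N = 1) {e : ℕ}
    (h : ∀ x ∈ M.charpoly.roots, x ^ e = 1) : M ^ e = 1 := by
  obtain ⟨P, d, rfl⟩ := exists_diag M hN hM
  rw [roots_charpoly_conj_diag] at h
  have hd : d ^ e = 1 := funext fun i => h _ (Multiset.mem_map.2 ⟨i, Finset.mem_univ i, rfl⟩)
  rw [conj_pow_diag, hd]
  simp

theorem root_pow_eq_one (M : Matrix ι ι K) {N : ℕ} (hN : (N : K) ≠ 0) (hM : M ^ N = 1) {e : ℕ}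
    (he : M ^ e = 1) {x : K} (hx : x ∈ M.charpoly.roots) : x ^ e = 1 := by
  obtain ⟨P, d, rfl⟩ := exists_diag M hN hM
  rw [roots_charpoly_conj_diag] at hx
  obtain ⟨i, -, rfl⟩ := Multiset.mem_map.1 hx
  rw [conj_pow_diag, Units.mul_inv_eq_iff_eq_mul, one_mul] at he
  have h2 : Matrix.diagonal (d ^ e) = (1 : Matrix ι ι K) := (Units.mul_right_inj P).1 (he.trans (mul_one _).symm)
  rw [← Matrix.diagonal_one] at h2
  exact congrFun (Matrix.diagonal_injective h2) i

/-- With simple eigenvalues the only commuting nilpotent matrix is zero. -/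
theorem eq_zero_of_nodup (M U : Matrix ι ι K) {N : ℕ} (hN : (N : K) ≠ 0) (hM : M ^ N = 1)
    (hc : Commute M U) (hU : IsNilpotent U) (hnd : M.charpoly.roots.Nodup) : U = 0 := by
  obtain ⟨P, d, rfl⟩ := exists_diag M hN hM
  rw [roots_charpoly_conj_diag] at hnd
  have hd : Function.Injective d := by
    intro i j hij
    exact Multiset.inj_on_of_nodup_map hnd i (Finset.mem_univ i) j (Finset.mem_univ j) hij
  set V := (((P⁻¹ : (Matrix ι ι K)ˣ) : Matrix ι ι K) * U * (P : Matrix ι ι K) : Matrix ι ι K) with hV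
  have hcomm : Matrix.diagonal d * V = V * Matrix.diagonal d := by
    have e := congrArg (fun X => ((P⁻¹ : (Matrix ι ι K)ˣ) : Matrix ι ι K) * X * (P : Matrix ι ι K)) hc.eq
    simp only [← mul_assoc, Units.inv_mul, one_mul] at e
    simp only [mul_assoc, Units.inv_mul, mul_one] at e
    simpa [hV, mul_assoc] using e
  have hdiag : V = Matrix.diagonal fun i => V i i := by
    ext i j
    by_cases h : i = j
    · subst h
      simp
    · rw [Matrix.diagonal_apply_ne _ h]
      have e := congrFun (congrFun hcomm i) j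
      rw [Matrix.diagonal_mul, Matrix.mul_diagonal] at e
      have : (d i - d j) * V i j = 0 := by linear_combination e
      exact (mul_eq_zero.1 this).resolve_left (sub_ne_zero.2 fun e => h (hd e))
  obtain ⟨k, hk⟩ := hU
  have hVk : V ^ k = 0 := by
    rw [hV, Units.conj_pow', hk]
    simp
  rw [hdiag, Matrix.diagonal_pow] at hVk
  have hV0 : V = 0 := by
    rw [hdiag]
    ext i j
    rw [Matrix.diagonal_apply]
    split_ifs with h
    · have := congrFun (congrFun hVk i) i
      rw [Matrix.diagonal_apply_eq] at this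
      exact eq_zero_of_pow_eq_zero this
    · rfl
  have := congrArg (fun X => (P : Matrix ι ι K) * X * ((P⁻¹ : (Matrix ι ι K)ˣ) : Matrix ι ι K)) hV0
  simpa [hV, mul_assoc] using this

/-- A diagonalisable matrix with one eigenvalue is scalar. -/
theorem eq_scalar_of_roots (M : Matrix ι ι K) {N : ℕ} (hN : (N : K) ≠ 0) (hM : M ^ N = 1) {x : K}
    (h : ∀ y ∈ M.charpoly.roots, y = x) : M = Matrix.diagonal fun _ => x := by
  obtain ⟨P, d, rfl⟩ := exists_diag M hN hM
  rw [roots_charpoly_conj_diag] at h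
  have hd : d = fun _ => x := funext fun i => h _ (Multiset.mem_map.2 ⟨i, Finset.mem_univ i, rfl⟩)
  subst hd
  rw [← Matrix.smul_one_eq_diagonal, Matrix.mul_smul, mul_one, Matrix.smul_mul, Units.mul_inv]

end CfsgLib.Classical.EigenOrbit
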