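import Cfsg.Agent.Lib.Classical.EigenOrbit.Orbit

/-!
# Eigenvalues over a finite field and the orbits of Frobenius
-/

set_option autoImplicit false

namespace CfsgLib.Classical.EigenOrbit

open scoped Matrix

variable {F : Type*} [Field F] {ι : Type*} [Fintype ι] [DecidableEq ι]

/-- The eigenvalues in an algebraic closure, with multiplicity. -/
noncomputable def ev (M : Matrix ι ι F) : Multiset (AlgebraicClosure F) :=
  (M.map (algebraMap F (AlgebraicClosure F))).charpoly.roots

theorem card_ev (M : Matrix ι ι F) : Multiset.card (ev M) = Fintype.card ι := card_roots _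

theorem map_pow_eq_one {M : Matrix ι ι F} {N : ℕ} (h : M ^ N = 1) :
    (M.map (algebraMap F (AlgebraicClosure F))) ^ N = 1 := by
  have := congrArg (algebraMap F (AlgebraicClosure F)).mapMatrix h
  rwa [map_pow, map_one] at this

theorem natCast_ne_zero {N : ℕ} (hN : (N : F) ≠ 0) : (N : AlgebraicClosure F) ≠ 0 := fun h =>
  hN ((algebraMap F (AlgebraicClosure F)).injective (by rw [map_natCast, h, map_zero]))

theorem root_pow_ev {M : Matrix ι ι F} {N : ℕ} (hN : (N : F) ≠ 0) (hM : M ^ N = 1) {e : ℕ}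
    (he : M ^ e = 1) {x : AlgebraicClosure F} (hx : x ∈ ev M) : x ^ e = 1 :=
  root_pow_eq_one _ (natCast_ne_zero hN) (map_pow_eq_one hM) (map_pow_eq_one he) hx

theorem pow_eq_one_of_ev {M : Matrix ι ι F} {N : ℕ} (hN : (N : F) ≠ 0) (hM : M ^ N = 1) {e : ℕ}
    (h : ∀ x ∈ ev M, x ^ e = 1) : M ^ e = 1 := by
  have h1 := pow_eq_one_of_roots _ (natCast_ne_zero hN) (map_pow_eq_one hM) h
  refine Matrix.map_injective (algebraMap F (AlgebraicClosure F)).injective ?_
  show (algebraMap F (AlgebraicClosure F)).mapMatrix (M ^ e) =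
    (algebraMap F (AlgebraicClosure F)).mapMatrix 1
  rw [map_pow, map_one]
  exact h1

theorem exists_ev_ne_one {M : Matrix ι ι F} {N : ℕ} (hN : (N : F) ≠ 0) (hM : M ^ N = 1) (h1 : M ≠ 1) :
    ∃ x ∈ ev M, x ≠ 1 := by
  by_contra hc
  push Not at hc
  exact h1 (by simpa using pow_eq_one_of_ev hN hM (e := 1) fun x hx => by rw [pow_one]; exact hc x hx)

theorem ev_pow {M : Matrix ι ι F} {N : ℕ} (hN : (N : F) ≠ 0) (hM : M ^ N = 1) (j : ℕ) :
    ev (M ^ j) = (ev M).map (· ^ j) := by
  unfold ev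
  rw [← roots_charpoly_pow _ (natCast_ne_zero hN) (map_pow_eq_one hM) j]
  congr 2
  exact map_pow (algebraMap F (AlgebraicClosure F)).mapMatrix M j

theorem ev_transpose (M : Matrix ι ι F) : ev Mᵀ = ev M := by
  unfold ev
  rw [Matrix.transpose_map, Matrix.charpoly_transpose]

theorem not_nodup_ev {M U : Matrix ι ι F} {N : ℕ} (hN : (N : F) ≠ 0) (hM : M ^ N = 1)
    (hc : Commute M U) (hU : IsNilpotent U) (hU0 : U ≠ 0) : ¬ (ev M).Nodup := by
  intro hnd
  refine hU0 (Matrix.map_injective (algebraMap F (AlgebraicClosure F)).injective ?_)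
  show (algebraMap F (AlgebraicClosure F)).mapMatrix U = (algebraMap F (AlgebraicClosure F)).mapMatrix 0
  rw [map_zero]
  exact eq_zero_of_nodup _ _ (natCast_ne_zero hN) (map_pow_eq_one hM)
    (hc.map (algebraMap F (AlgebraicClosure F)).mapMatrix) (hU.map _) hnd

variable [Fintype F] (p : ℕ) [Fact p.Prime] [CharP F p]

include p in
/-- Powers of the Frobenius of the algebraic closure. -/
theorem exists_frob_hom (q : ℕ) (hq : ∃ a, q = p ^ a) :
    ∃ φ : AlgebraicClosure F →+* AlgebraicClosure F, ∀ x, φ x = x ^ q := by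
  haveI : CharP (AlgebraicClosure F) p :=
    charP_of_injective_algebraMap (algebraMap F (AlgebraicClosure F)).injective p
  haveI : ExpChar (AlgebraicClosure F) p := ExpChar.prime Fact.out
  obtain ⟨a, rfl⟩ := hq
  exact ⟨iterateFrobenius (AlgebraicClosure F) p a, fun x => iterateFrobenius_def p a x⟩

include p in
theorem exists_card_eq_pow : ∃ a, Fintype.card F = p ^ a := by
  obtain ⟨a, -, h⟩ := FiniteField.card F p
  exact ⟨a, h⟩

/-- Applying an automorphism to the matrix applies it to the eigenvalues. -/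
theorem ev_map {M : Matrix ι ι F} {N : ℕ} (hN : (N : F) ≠ 0) (hM : M ^ N = 1)
    (σ : F →+* F) (φ : AlgebraicClosure F →+* AlgebraicClosure F)
    (hcomm : ∀ c, φ (algebraMap F (AlgebraicClosure F) c) = algebraMap F (AlgebraicClosure F) (σ c)) :
    ev (M.map σ) = (ev M).map φ := by
  unfold ev
  obtain ⟨P, d, hPd⟩ := exists_diag _ (natCast_ne_zero hN) (map_pow_eq_one hM)
  have e : (M.map σ).map (algebraMap F (AlgebraicClosure F)) =
      φ.mapMatrix (M.map (algebraMap F (AlgebraicClosure F))) :=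
    Matrix.ext fun i j => (hcomm (M i j)).symm
  rw [e, hPd, map_mul, map_mul, roots_charpoly_conj_diag]
  have e2 : φ.mapMatrix (Matrix.diagonal d) = Matrix.diagonal (φ ∘ d) := by
    rw [RingHom.mapMatrix_apply, Matrix.diagonal_map (map_zero φ)]
    rfl
  rw [e2, show φ.mapMatrix (P : Matrix ι ι (AlgebraicClosure F)) =
      ((Units.map φ.mapMatrix.toMonoidHom P : (Matrix ι ι (AlgebraicClosure F))ˣ) :
        Matrix ι ι (AlgebraicClosure F)) from rfl,
    show φ.mapMatrix ((P⁻¹ : (Matrix ι ι (AlgebraicClosure F))ˣ) : Matrix ι ι (AlgebraicClosure F)) =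
      (((Units.map φ.mapMatrix.toMonoidHom P)⁻¹ : (Matrix ι ι (AlgebraicClosure F))ˣ) :
        Matrix ι ι (AlgebraicClosure F)) from rfl,
    roots_charpoly_conj_diag, Multiset.map_map]

include p in
/-- The eigenvalues are stable under Frobenius. -/
theorem exists_frob_stable {M : Matrix ι ι F} {N : ℕ} (hN : (N : F) ≠ 0) (hM : M ^ N = 1) :
    ∃ f : AlgebraicClosure F → AlgebraicClosure F, Function.Injective f ∧ (ev M).map f = ev M ∧
      ∀ x, f x = x ^ Fintype.card F := by
  obtain ⟨φ, hφ⟩ := exists_frob_hom p (Fintype.card F) (exists_card_eq_pow p) (F := F)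
  refine ⟨φ, φ.injective, ?_, hφ⟩
  rw [← ev_map hN hM (RingHom.id F) φ fun c => by
    rw [hφ, ← map_pow, FiniteField.pow_card, RingHom.id_apply]]
  simp

omit [Fintype F] in
/-- Eigenvalues are inverted by inversion when the inverse has the same eigenvalues. -/
theorem ev_map_inv {M : Matrix ι ι F} {N : ℕ} (hN : (N : F) ≠ 0) (hM : M ^ N = 1)
    (h : ev (M ^ (N - 1)) = ev M) : (ev M).map (·⁻¹) = ev M := by
  have hN0 : N ≠ 0 := by rintro rfl; exact hN Nat.cast_zero
  conv_lhs => rw [← h, ev_pow hN hM, Multiset.map_map]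
  refine (Multiset.map_congr rfl fun x hx => ?_).trans (Multiset.map_id _)
  show (x ^ (N - 1))⁻¹ = x
  refine inv_eq_of_mul_eq_one_right ?_
  rw [← pow_succ, Nat.sub_add_cancel (Nat.pos_of_ne_zero hN0), root_pow_ev hN hM hM hx]

end CfsgLib.Classical.EigenOrbit
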