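import Mathlib

/-!
# Lifting through a central quotient
-/

set_option autoImplicit false

namespace CfsgLib.Classical.EigenOrbit

variable {G : Type*} [Group G] [Finite G]

theorem exists_lift_commuting {p : ℕ} (hp : Nat.Coprime p (Nat.card (Subgroup.center G)))
    {a b : G ⧸ Subgroup.center G} (ha : a ^ p = 1) (hab : Commute a b) :
    ∃ A B : G, A ^ p = 1 ∧ QuotientGroup.mk A = a ∧ QuotientGroup.mk B = b ∧ Commute A B := by
  induction a using QuotientGroup.induction_on with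
  | H A₀ =>
  induction b using QuotientGroup.induction_on with
  | H B =>
  rw [← QuotientGroup.mk_pow, QuotientGroup.eq_one_iff] at ha
  obtain ⟨w, hw⟩ := (powCoprime (G := Subgroup.center G) hp.symm).surjective ⟨_, ha⟩
  have hw' : (w : G) ^ p = A₀ ^ p := congrArg Subtype.val hw
  have hcw : Commute A₀ (w : G)⁻¹ := (Subgroup.mem_center_iff.1 (inv_mem w.2) A₀)
  have hA : (A₀ * (w : G)⁻¹) ^ p = 1 := by
    rw [hcw.mul_pow, inv_pow, hw', mul_inv_cancel]
  have hmk : (QuotientGroup.mk (A₀ * (w : G)⁻¹) : G ⧸ Subgroup.center G) = QuotientGroup.mk A₀ :=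
    QuotientGroup.mk_mul_of_mem _ (inv_mem w.2)
  refine ⟨_, B, hA, hmk, rfl, ?_⟩
  set A := A₀ * (w : G)⁻¹
  have hz : A * B * A⁻¹ * B⁻¹ ∈ Subgroup.center G := by
    rw [← QuotientGroup.eq_one_iff, QuotientGroup.mk_mul, QuotientGroup.mk_mul, QuotientGroup.mk_mul,
      QuotientGroup.mk_inv, QuotientGroup.mk_inv, hmk, hab.eq]
    group
  have e : B * A * B⁻¹ = (A * B * A⁻¹ * B⁻¹)⁻¹ * A := by
    group
  have hc : Commute (A * B * A⁻¹ * B⁻¹)⁻¹ A := (Subgroup.mem_center_iff.1 (inv_mem hz) A).symm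
  have h2 : ((A * B * A⁻¹ * B⁻¹)⁻¹) ^ p = 1 := by
    have h3 : (B * A * B⁻¹) ^ p = 1 := by rw [conj_pow, hA, mul_one, mul_inv_cancel]
    rwa [e, hc.mul_pow, hA, mul_one] at h3
  have h4 : (⟨(A * B * A⁻¹ * B⁻¹)⁻¹, inv_mem hz⟩ : Subgroup.center G) = 1 :=
    (powCoprime (G := Subgroup.center G) hp.symm).injective (Subtype.ext (by simpa using h2))
  have h5 : A * B * A⁻¹ * B⁻¹ = 1 := inv_eq_one.1 (congrArg Subtype.val h4)
  exact commutatorElement_eq_one_iff_commute.1 h5

omit [Finite G] in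
theorem orderOf_mk_of_coprime {g : G}
    (h : Nat.Coprime (orderOf g) (Nat.card (Subgroup.center G))) :
    orderOf (QuotientGroup.mk g : G ⧸ Subgroup.center G) = orderOf g := by
  refine Nat.dvd_antisymm (orderOf_map_dvd (QuotientGroup.mk' (Subgroup.center G)) g) ?_
  refine orderOf_dvd_of_pow_eq_one ?_
  have hmem : g ^ orderOf (QuotientGroup.mk g : G ⧸ Subgroup.center G) ∈ Subgroup.center G := by
    rw [← QuotientGroup.eq_one_iff, QuotientGroup.mk_pow, pow_orderOf_eq_one]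
  have h1 : orderOf (g ^ orderOf (QuotientGroup.mk g : G ⧸ Subgroup.center G)) ∣
      Nat.gcd (orderOf g) (Nat.card (Subgroup.center G)) :=
    Nat.dvd_gcd (orderOf_pow_dvd _) (Subgroup.orderOf_dvd_natCard _ hmem)
  rw [h.gcd_eq_one, Nat.dvd_one, orderOf_eq_one_iff] at h1
  exact h1

theorem exists_pow_orderOf_eq {g : G} {m : ℕ} (hm : m ∣ orderOf (QuotientGroup.mk g : G ⧸ Subgroup.center G)) :
    ∃ j : ℕ, orderOf (g ^ j) = m := by
  obtain ⟨c, hc⟩ := hm.trans (orderOf_map_dvd (QuotientGroup.mk' (Subgroup.center G)) g)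
  have h0 := orderOf_pos g
  refine ⟨c, ?_⟩
  rw [orderOf_pow' _ (by rintro rfl; omega), hc, Nat.gcd_eq_right (Dvd.intro_left m rfl),
    Nat.mul_div_cancel _ (Nat.pos_of_ne_zero (by rintro rfl; omega))]

/-- An element order of the group is an element order of the quotient, when coprime to the centre. -/
theorem mem_range_orderOf_mk_iff {m : ℕ} (hm : Nat.Coprime m (Nat.card (Subgroup.center G))) :
    m ∈ Set.range (orderOf : G ⧸ Subgroup.center G → ℕ) ↔ ∃ g : G, orderOf g = m := by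
  constructor
  · rintro ⟨x, hx⟩
    induction x using QuotientGroup.induction_on with
    | H g =>
    obtain ⟨j, hj⟩ := exists_pow_orderOf_eq (g := g) (m := m) (dvd_of_eq hx.symm)
    exact ⟨_, hj⟩
  · rintro ⟨g, rfl⟩
    exact ⟨_, orderOf_mk_of_coprime hm⟩

end CfsgLib.Classical.EigenOrbit
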