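import Mathlib

/-!
# The subgroups of units generated by `q` and `-1`
-/

set_option autoImplicit false

namespace CfsgLib.Classical.EigenOrbit

theorem orderOf_cast_pos {q r : ℕ} (h : Nat.Coprime q r) [NeZero r] : 0 < orderOf (q : ZMod r) := by
  rw [← ZMod.coe_unitOfCoprime q h, orderOf_units]
  exact orderOf_pos _

theorem orderOf_dvd_card_closure {m q : ℕ} [NeZero m] (h : Nat.Coprime q m) {T : Set (ZMod m)ˣ}
    (hT : ZMod.unitOfCoprime q h ∈ T) : orderOf (q : ZMod m) ∣ Nat.card (Subgroup.closure T) := by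
  rw [← ZMod.coe_unitOfCoprime q h, orderOf_units]
  exact Subgroup.orderOf_dvd_natCard _ (Subgroup.subset_closure hT)

theorem orderOf_neg_one_units {r : ℕ} [Fact r.Prime] (hr2 : r ≠ 2) :
    orderOf (-1 : (ZMod r)ˣ) = 2 := by
  refine orderOf_eq_prime (by rw [neg_sq, one_pow]) fun h => ?_
  have h1 := congrArg (fun u : (ZMod r)ˣ => (u : ZMod r)) h
  simp only [Units.val_neg, Units.val_one] at h1
  haveI : Fact (2 < r) := ⟨lt_of_le_of_ne (Nat.Prime.two_le Fact.out) (Ne.symm hr2)⟩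
  exact ZMod.neg_one_ne_one h1

/-- The group generated by `q` and `-1` has order at least `2η`. -/
theorem two_eta_dvd_card {r q k η : ℕ} [Fact r.Prime] (hr2 : r ≠ 2) (h : Nat.Coprime q r)
    (hk : k = orderOf (q : ZMod r)) (hη : (Odd k ∧ η = k) ∨ (Even k ∧ 2 * η = k))
    {T : Set (ZMod r)ˣ} (hT : ZMod.unitOfCoprime q h ∈ T) (hT' : (-1 : (ZMod r)ˣ) ∈ T) :
    2 * η ∣ Nat.card (Subgroup.closure T) := by
  have h1 := orderOf_dvd_card_closure h hT
  rw [← hk] at h1
  rcases hη with ⟨ho, rfl⟩ | ⟨-, he⟩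
  · have h2 := Subgroup.orderOf_dvd_natCard _ (Subgroup.subset_closure hT' (k := T))
    rw [orderOf_neg_one_units hr2] at h2
    exact (Nat.coprime_two_left.2 ho).mul_dvd_of_dvd_of_dvd h2 h1
  · rwa [he]

theorem eq_one_of_card_lt {G G' : Type*} [Group G] [Group G'] [Finite G] (f : G →* G')
    (H : Subgroup G) {b : ℕ} (hb : b ≤ Nat.card (H.map f)) (hlt : Nat.card H < 2 * b) {x : G}
    (hx : x ∈ H) (hfx : f x = 1) : x = 1 := by
  have h1 := (f.comp H.subtype).ker.card_mul_index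
  rw [Subgroup.index_ker, MonoidHom.range_comp, Subgroup.range_subtype] at h1
  by_contra hne
  have h2 : 2 ≤ Nat.card (f.comp H.subtype).ker := by
    rw [Nat.succ_le_iff, Finite.one_lt_card_iff_nontrivial]
    refine ⟨⟨⟨⟨x, hx⟩, hfx⟩, 1, fun e => hne ?_⟩⟩
    exact congrArg (fun y : (f.comp H.subtype).ker => ((y : H) : G)) e
  have := Nat.mul_le_mul h2 hb
  omega

theorem exists_neg_one_pow {r q k : ℕ} [Fact r.Prime] (hr2 : r ≠ 2) (hk : k = orderOf (q : ZMod r))
    (he : Even k) (hk0 : 0 < k) : (q : ZMod r) ^ (k / 2) = -1 := by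
  obtain ⟨j, hj⟩ := he
  have h1 : ((q : ZMod r) ^ (k / 2)) ^ 2 = 1 := by
    rw [← pow_mul, show k / 2 * 2 = k by omega, hk, pow_orderOf_eq_one]
  rcases sq_eq_one_iff.1 h1 with h | h
  · exfalso
    have := Nat.le_of_dvd (by omega) (orderOf_dvd_of_pow_eq_one h)
    omega
  · exact h

/-- A small orbit modulo `r * s` forces `k ∣ l`. -/
theorem dvd_of_card_lt {r s q k l : ℕ} [NeZero r] [NeZero s] (h : Nat.Coprime q (r * s))
    (hk : k = orderOf (q : ZMod r)) (hl : l = orderOf (q : ZMod s))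
    (T : Set (ZMod (r * s))ˣ) (hT : ZMod.unitOfCoprime q h ∈ T) {b : ℕ}
    (hb : b ≤ Nat.card ((Subgroup.closure T).map
      (ZMod.unitsMap (Dvd.intro_left r rfl : s ∣ r * s))))
    (hlt : Nat.card (Subgroup.closure T) < 2 * b) : k ∣ l := by
  haveI : NeZero (r * s) := ⟨Nat.mul_ne_zero (NeZero.ne r) (NeZero.ne s)⟩
  set u := ZMod.unitOfCoprime q h
  have hd : s ∣ r * s := Dvd.intro_left r rfl
  have hul : ZMod.unitsMap hd (u ^ l) = 1 := by
    refine Units.ext ?_
    rw [map_pow, Units.val_pow_eq_pow_val, ZMod.unitsMap_val, ZMod.coe_unitOfCoprime,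
      ZMod.cast_natCast hd, hl, pow_orderOf_eq_one, Units.val_one]
  have h1 : u ^ l = 1 := eq_one_of_card_lt _ _ hb hlt
    (pow_mem (Subgroup.subset_closure hT) l) hul
  rw [hk]
  refine orderOf_dvd_of_pow_eq_one ?_
  have h2 := congrArg (fun w : (ZMod (r * s))ˣ => ZMod.unitsMap (Dvd.intro s rfl : r ∣ r * s) w) h1
  simp only [map_pow, map_one] at h2
  have h3 := congrArg (fun w : (ZMod r)ˣ => (w : ZMod r)) h2
  simp only [Units.val_pow_eq_pow_val, ZMod.unitsMap_val, Units.val_one] at h3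
  rwa [ZMod.coe_unitOfCoprime, ZMod.cast_natCast (Dvd.intro s rfl)] at h3

/-- With `-1` present the quotient `l / k` is moreover odd. -/
theorem odd_quot_of_card_lt {r s q k l : ℕ} [Fact r.Prime] [Fact s.Prime] (hr2 : r ≠ 2) (hs2 : s ≠ 2)
    (h : Nat.Coprime q (r * s)) (hk : k = orderOf (q : ZMod r)) (hl : l = orderOf (q : ZMod s))
    (T : Set (ZMod (r * s))ˣ) (hT : ZMod.unitOfCoprime q h ∈ T) (hT' : (-1 : (ZMod (r * s))ˣ) ∈ T)
    {b : ℕ}
    (hb : b ≤ Nat.card ((Subgroup.closure T).map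
      (ZMod.unitsMap (Dvd.intro_left r rfl : s ∣ r * s))))
    (hlt : Nat.card (Subgroup.closure T) < 2 * b) : ∃ t, Odd t ∧ l = k * t := by
  obtain ⟨t, ht⟩ := dvd_of_card_lt h hk hl T hT hb hlt
  refine ⟨t, (Nat.even_or_odd t).resolve_left fun he => ?_, ht⟩
  haveI : NeZero (r * s) := ⟨Nat.mul_ne_zero (Fact.out : r.Prime).ne_zero (Fact.out : s.Prime).ne_zero⟩
  set u := ZMod.unitOfCoprime q h
  have hl0 : 0 < l := hl ▸ orderOf_cast_pos (Nat.Coprime.coprime_mul_left_right h)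
  have hle : Even l := ht ▸ he.mul_left k
  have hdr : r ∣ r * s := Dvd.intro s rfl
  have hds : s ∣ r * s := Dvd.intro_left r rfl
  have hneg := exists_neg_one_pow hs2 hl hle hl0
  have hs1 : ZMod.unitsMap hds (-1 * u ^ (l / 2)) = 1 := by
    refine Units.ext ?_
    rw [map_mul, map_pow, Units.val_mul, Units.val_pow_eq_pow_val, ZMod.unitsMap_val,
      ZMod.unitsMap_val, ZMod.coe_unitOfCoprime, ZMod.cast_natCast hds, hneg, Units.val_neg,
      Units.val_one, ZMod.cast_neg hds, ZMod.cast_one hds]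
    simp
  have h1 : -1 * u ^ (l / 2) = 1 := eq_one_of_card_lt _ _ hb hlt
    (mul_mem (Subgroup.subset_closure hT') (pow_mem (Subgroup.subset_closure hT) _)) hs1
  have h2 := congrArg (fun w : (ZMod (r * s))ˣ => ((ZMod.unitsMap hdr w : (ZMod r)ˣ) : ZMod r)) h1
  simp only [map_mul, map_pow, map_one, Units.val_mul, Units.val_pow_eq_pow_val, ZMod.unitsMap_val,
    Units.val_neg, Units.val_one] at h2
  obtain ⟨e, rfl⟩ := he
  rw [ZMod.coe_unitOfCoprime, ZMod.cast_natCast hdr, ZMod.cast_neg hdr, ZMod.cast_one hdr,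
    show l / 2 = k * e by rw [ht, ← two_mul, ← mul_assoc, mul_comm k 2, mul_assoc]; omega, pow_mul,
    hk, pow_orderOf_eq_one, one_pow, mul_one] at h2
  haveI : Fact (2 < r) := ⟨lt_of_le_of_ne (Nat.Prime.two_le Fact.out) (Ne.symm hr2)⟩
  exact ZMod.neg_one_ne_one h2

end CfsgLib.Classical.EigenOrbit
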