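import Cfsg.Agent.Lib.Classical.EigenOrbit.FiniteEigen
import Cfsg.Agent.Lib.Classical.EigenOrbit.UnitGroups
import Cfsg.Agent.Lib.Classical.EigenOrbit.Lift
import Cfsg.Agent.Lib.Known.GLOrders
import Cfsg.Agent.Lib.Classical.LinearOrder

/-!
# Orbits of Frobenius on the eigenvalues of elements of linear groups
-/

set_option autoImplicit false

namespace CfsgLib.Classical.EigenOrbit

open scoped Matrix

variable {F : Type*} [Field F] [Fintype F] (p : ℕ) [Fact p.Prime] [CharP F p]

include p in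
theorem coprime_card {m : ℕ} (hm : ¬ p ∣ m) : Nat.Coprime (Fintype.card F) m := by
  obtain ⟨a, ha⟩ := exists_card_eq_pow p (F := F)
  rw [ha]
  exact Nat.Coprime.pow_left a ((Nat.Prime.coprime_iff_not_dvd Fact.out).2 hm)

omit [Fintype F] in
include p in
theorem cast_ne_zero_of_not_dvd {m : ℕ} (hm : ¬ p ∣ m) : (m : F) ≠ 0 := fun h =>
  hm ((CharP.cast_eq_zero_iff F p m).1 h)

theorem not_dvd_prime {r : ℕ} (hr : r.Prime) (hrp : r ≠ p) : ¬ p ∣ r := fun h =>
  hrp ((Nat.prime_dvd_prime_iff_eq Fact.out hr).1 h).symm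

variable {ι : Type*} [Fintype ι] [DecidableEq ι]

include p in
theorem stableUnder_frob {M : Matrix ι ι F} {N : ℕ} (hN : (N : F) ≠ 0) (hM : M ^ N = 1) {m : ℕ}
    (h : Nat.Coprime (Fintype.card F) m) :
    ∀ t ∈ ({ZMod.unitOfCoprime (Fintype.card F) h} : Set (ZMod m)ˣ),
      ∃ f : AlgebraicClosure F → AlgebraicClosure F, Function.Injective f ∧ (ev M).map f = ev M ∧
        ∀ y, y ^ m = 1 → f y = y ^ (t : ZMod m).val := by
  rintro t rfl
  obtain ⟨f, hf, hS, hfx⟩ := exists_frob_stable p hN hM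
  refine ⟨f, hf, hS, fun y hy => ?_⟩
  rw [hfx, ZMod.coe_unitOfCoprime, ZMod.val_natCast]
  exact pow_eq_pow_mod _ hy

include p in
/-- An element of prime order commuting with a non-zero nilpotent has a short orbit. -/
theorem orbit_bound {r : ℕ} (hr : r.Prime) (hrp : r ≠ p) {M U : Matrix ι ι F} (hM : M ^ r = 1)
    (h1 : M ≠ 1) (hc : Commute M U) (hU : IsNilpotent U) (hU0 : U ≠ 0) :
    2 * orderOf ((Fintype.card F : ℕ) : ZMod r) ≤ Fintype.card ι ∨
      orderOf ((Fintype.card F : ℕ) : ZMod r) + 2 ≤ Fintype.card ι := by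
  classical
  haveI : NeZero r := ⟨hr.ne_zero⟩
  have hN := cast_ne_zero_of_not_dvd p (not_dvd_prime p hr hrp) (F := F)
  have hq := coprime_card p (not_dvd_prime p hr hrp) (F := F)
  have hb := card_closure_bound hr (card_ev M) (fun x hx => root_pow_ev hN hM hM hx)
    (exists_ev_ne_one hN hM h1) (not_nodup_ev hN hM hc hU hU0) (stableUnder_frob p hN hM hq)
  have hd := Nat.le_of_dvd Nat.card_pos (orderOf_dvd_card_closure hq (Set.mem_singleton _))
  omega

include p in
/-- The orbit of an element of prime order fits in the space. -/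
theorem orderOf_le_card {r : ℕ} (hr : r.Prime) (hrp : r ≠ p) {M : Matrix ι ι F} (hM : M ^ r = 1)
    (h1 : M ≠ 1) : orderOf ((Fintype.card F : ℕ) : ZMod r) ≤ Fintype.card ι := by
  classical
  haveI : NeZero r := ⟨hr.ne_zero⟩
  haveI : Fact r.Prime := ⟨hr⟩
  have hN := cast_ne_zero_of_not_dvd p (not_dvd_prime p hr hrp) (F := F)
  have hq := coprime_card p (not_dvd_prime p hr hrp) (F := F)
  obtain ⟨x, hx, hx1⟩ := exists_ev_ne_one hN hM h1
  have := card_closure_le (card_ev M) hx (orderOf_eq_prime (root_pow_ev hN hM hM hx) hx1)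
    (stableUnder_frob p hN hM hq)
  exact le_trans (Nat.le_of_dvd Nat.card_pos (orderOf_dvd_card_closure hq (Set.mem_singleton _))) this

/-- The eigenvalues of an element of order `r * s` have order `r * s`, or both orders occur. -/
theorem exists_root_orders {r s : ℕ} (hr : r.Prime) (hs : s.Prime) (hN : ((r * s : ℕ) : F) ≠ 0)
    {M : Matrix ι ι F} (hM : M ^ (r * s) = 1) (hMr : M ^ r ≠ 1) (hMs : M ^ s ≠ 1) :
    (∃ x ∈ ev M, orderOf x = r * s) ∨ ((∃ x ∈ ev M, orderOf x = r) ∧ ∃ y ∈ ev M, orderOf y = s) := by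
  by_contra hc
  push Not at hc
  obtain ⟨h1, h2⟩ := hc
  have hdiv : ∀ x ∈ ev M, orderOf x ∣ r ∨ orderOf x ∣ s := by
    intro x hx
    obtain ⟨a, b, ha, hb, hab⟩ :=
      Nat.dvd_mul.1 (orderOf_dvd_of_pow_eq_one (root_pow_ev hN hM hM hx))
    rcases (Nat.dvd_prime hr).1 ha with rfl | rfl
    · exact Or.inr (by rw [← hab, one_mul]; exact hb)
    · rcases (Nat.dvd_prime hs).1 hb with rfl | rfl
      · exact Or.inl (by rw [← hab, mul_one])
      · exact absurd hab.symm (h1 x hx)
  by_cases h3 : ∃ x ∈ ev M, orderOf x = r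
  · refine hMr (pow_eq_one_of_ev hN hM fun y hy => orderOf_dvd_iff_pow_eq_one.1 ?_)
    rcases hdiv y hy with h | h
    · exact h
    · rcases (Nat.dvd_prime hs).1 h with h' | h'
      · rw [h']; exact one_dvd _
      · exact absurd h' (h2 h3 y hy)
  · push Not at h3
    refine hMs (pow_eq_one_of_ev hN hM fun y hy => orderOf_dvd_iff_pow_eq_one.1 ?_)
    rcases hdiv y hy with h | h
    · rcases (Nat.dvd_prime hr).1 h with h' | h'
      · rw [h']; exact one_dvd _
      · exact absurd h' (h3 y hy)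
    · exact h

include p in
/-- An element of order `r * s` with short total space. -/
theorem dvd_of_orderOf_mul {r s : ℕ} (hr : r.Prime) (hs : s.Prime) (hrp : r ≠ p) (hsp : s ≠ p)
    (hrs : r ≠ s) {M : Matrix ι ι F} (hM : M ^ (r * s) = 1) (hMr : M ^ r ≠ 1) (hMs : M ^ s ≠ 1)
    {k l : ℕ} (hk : k = orderOf ((Fintype.card F : ℕ) : ZMod r))
    (hl : l = orderOf ((Fintype.card F : ℕ) : ZMod s)) (hkl : k ≤ l)
    (hn : Fintype.card ι < k + l) : k ∣ l := by
  classical
  haveI : NeZero r := ⟨hr.ne_zero⟩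
  haveI : NeZero s := ⟨hs.ne_zero⟩
  haveI : NeZero (r * s) := ⟨mul_ne_zero hr.ne_zero hs.ne_zero⟩
  have hp : ¬ p ∣ r * s := fun h => (Nat.Prime.dvd_mul Fact.out).1 h |>.elim
    (not_dvd_prime p hr hrp) (not_dvd_prime p hs hsp)
  have hN := cast_ne_zero_of_not_dvd p hp (F := F)
  have hq := coprime_card p hp (F := F)
  rcases exists_root_orders hr hs hN hM hMr hMs with ⟨x, hx, hxo⟩ | ⟨⟨x, hx, hxo⟩, y, hy, hyo⟩
  · have hle := card_closure_le (card_ev M) hx hxo (stableUnder_frob p hN hM hq)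
    have hds : s ∣ r * s := Dvd.intro_left r rfl
    refine dvd_of_card_lt (b := l) hq hk hl _ (Set.mem_singleton _) ?_ (by omega)
    rw [MonoidHom.map_closure, Set.image_singleton]
    refine Nat.le_of_dvd Nat.card_pos ?_
    have e : ZMod.unitsMap hds (ZMod.unitOfCoprime (Fintype.card F) hq) =
        ZMod.unitOfCoprime (Fintype.card F) (hq.coprime_dvd_right hds) := Units.ext (by
      rw [ZMod.unitsMap_val, ZMod.coe_unitOfCoprime, ZMod.coe_unitOfCoprime, ZMod.cast_natCast hds])
    rw [e, hl]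
    exact orderOf_dvd_card_closure _ (Set.mem_singleton _)
  · exfalso
    have hqr := coprime_card p (not_dvd_prime p hr hrp) (F := F)
    have hqs := coprime_card p (not_dvd_prime p hs hsp) (F := F)
    have := card_closure_add_le hrs (card_ev M) hx hxo hy hyo (stableUnder_frob p hN hM hqr)
      (stableUnder_frob p hN hM hqs)
    have e1 := Nat.le_of_dvd Nat.card_pos (orderOf_dvd_card_closure hqr (Set.mem_singleton _))
    have e2 := Nat.le_of_dvd Nat.card_pos (orderOf_dvd_card_closure hqs (Set.mem_singleton _))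
    omega

omit p
omit [Fact p.Prime] [CharP F p]

theorem coprime_card_center_SL {n : ℕ} (hn : 1 ≤ n) {m : ℕ} (hm : Nat.Coprime m (Fintype.card F - 1)) :
    Nat.Coprime m (Nat.card (Subgroup.center (Matrix.SpecialLinearGroup (Fin n) F))) := by
  haveI : Nonempty (Fin n) := ⟨⟨0, hn⟩⟩
  rw [Nat.card_congr
    (Matrix.SpecialLinearGroup.center_equiv_rootsOfUnity (n := Fin n) (R := F)).toEquiv,
    card_rootsOfUnity_field]
  exact hm.coprime_dvd_right (Nat.gcd_dvd_right _ _)

omit [Fintype F] in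
theorem orderOf_coe_SL (g : Matrix.SpecialLinearGroup ι F) :
    orderOf (g : Matrix ι ι F) = orderOf g :=
  orderOf_injective ({ toFun := fun g : Matrix.SpecialLinearGroup ι F => (g : Matrix ι ι F),
                       map_one' := rfl, map_mul' := fun _ _ => rfl } :
    Matrix.SpecialLinearGroup ι F →* Matrix ι ι F) (fun _ _ h => Subtype.ext h) g

theorem exists_SL_of_GL {n : ℕ} (g : GL (Fin n) F) (h : Nat.Coprime (orderOf g) (Fintype.card F - 1)) :
    ∃ g' : Matrix.SpecialLinearGroup (Fin n) F, orderOf g' = orderOf g := by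
  classical
  have h1 : orderOf (Matrix.GeneralLinearGroup.det g) ∣ Nat.gcd (orderOf g) (Fintype.card F - 1) :=
    Nat.dvd_gcd (orderOf_map_dvd _ g) (by rw [← Fintype.card_units]; exact orderOf_dvd_card)
  rw [h.gcd_eq_one, Nat.dvd_one, orderOf_eq_one_iff] at h1
  have hd : (g : Matrix (Fin n) (Fin n) F).det = 1 := by
    simpa using congrArg Units.val h1
  exact ⟨(⟨_, hd⟩ : Matrix.SpecialLinearGroup (Fin n) F), (orderOf_coe_SL _).symm.trans orderOf_units⟩

/-- A pair of elements on complementary coordinate spaces. -/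
theorem exists_orderOf_pair {a b n : ℕ} (h : a + b ≤ n) (x : GL (Fin a) F) (y : GL (Fin b) F) :
    ∃ g : GL (Fin n) F, orderOf g = Nat.lcm (orderOf x) (orderOf y) := by
  classical
  let φ : GL (Fin a) F × GL (Fin b) F →*
      Module.End F ((Fin a → F) × (Fin b → F) × (Fin (n - (a + b)) → F)) :=
    { toFun := fun z => (Matrix.toLinAlgEquiv' (z.1 : Matrix (Fin a) (Fin a) F)).prodMap
        ((Matrix.toLinAlgEquiv' (z.2 : Matrix (Fin b) (Fin b) F)).prodMap LinearMap.id)
      map_one' := LinearMap.ext fun v => by simp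
      map_mul' := fun z w => LinearMap.ext fun v => by simp [Matrix.mulVec_mulVec] }
  have hinj : Function.Injective (MonoidHom.toHomUnits φ) := by
    intro z w hzw
    have h1 := congrArg (fun u => ((u : (Module.End F _)ˣ) : Module.End F
      ((Fin a → F) × (Fin b → F) × (Fin (n - (a + b)) → F)))) hzw
    refine Prod.ext (Units.ext (Matrix.toLinAlgEquiv'.injective (LinearMap.ext fun v => ?_)))
      (Units.ext (Matrix.toLinAlgEquiv'.injective (LinearMap.ext fun v => ?_)))
    · have := LinearMap.congr_fun h1 (v, 0, 0)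
      simpa [φ] using congrArg Prod.fst this
    · have := LinearMap.congr_fun h1 (0, v, 0)
      simpa [φ] using congrArg (fun u => u.2.1) this
  obtain ⟨g, hg⟩ := Known.GLOrders.exists_orderOf_eq_of_linear (n := n)
    (by simp [Module.finrank_prod]; omega) (MonoidHom.toHomUnits φ (x, y))
  exact ⟨g, by rw [hg, orderOf_injective _ hinj, Prod.orderOf_mk]⟩

end CfsgLib.Classical.EigenOrbit
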