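import Cfsg.Agent.Lib.Classical.EigenOrbit.Diag

/-!
# Orbits of roots of unity in an invariant multiset
-/

set_option autoImplicit false

namespace CfsgLib.Classical.EigenOrbit

variable {K : Type*} [Field K]

/-- The multiset is invariant under the power maps given by the set of units. -/
def StableUnder (S : Multiset K) (m : ℕ) (T : Set (ZMod m)ˣ) : Prop :=
  ∀ t ∈ T, ∃ f : K → K, Function.Injective f ∧ S.map f = S ∧
    ∀ y : K, y ^ m = 1 → f y = y ^ (t : ZMod m).val

theorem pow_eq_pow_of_cast_eq {m a b : ℕ} {y : K} (hy : y ^ m = 1) (h : (a : ZMod m) = b) :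
    y ^ a = y ^ b := by
  rw [pow_eq_pow_mod a hy, pow_eq_pow_mod b hy, (ZMod.natCast_eq_natCast_iff' a b m).1 h]

theorem count_pow [DecidableEq K] {S : Multiset K} {m : ℕ} [NeZero m] {T : Set (ZMod m)ˣ}
    (hT : StableUnder S m T) {h : (ZMod m)ˣ} (hh : h ∈ Subgroup.closure T) :
    ∀ y : K, y ^ m = 1 → S.count (y ^ (h : ZMod m).val) = S.count y := by
  have hcomp : ∀ (a b : (ZMod m)ˣ) (y : K), y ^ m = 1 →
      (y ^ (b : ZMod m).val) ^ (a : ZMod m).val = y ^ ((a * b : (ZMod m)ˣ) : ZMod m).val := by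
    intro a b y hy
    rw [← pow_mul]
    refine pow_eq_pow_of_cast_eq hy ?_
    push_cast [ZMod.natCast_zmod_val]
    ring
  have htor : ∀ (a : ℕ) (y : K), y ^ m = 1 → (y ^ a) ^ m = 1 := fun a y hy => by
    rw [← pow_mul, mul_comm, pow_mul, hy, one_pow]
  have hone : ∀ y : K, y ^ m = 1 → y ^ ((1 : (ZMod m)ˣ) : ZMod m).val = y := fun y hy => by
    refine (pow_eq_pow_of_cast_eq hy ?_).trans (pow_one y)
    simp [ZMod.natCast_zmod_val]
  refine Subgroup.closure_induction
    (p := fun (g : (ZMod m)ˣ) _ => ∀ y : K, y ^ m = 1 → S.count (y ^ (g : ZMod m).val) = S.count y)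
    ?_ ?_ ?_ ?_ hh
  · intro t ht y hy
    obtain ⟨f, hf, hS, hfy⟩ := hT t ht
    conv_lhs => rw [← hfy y hy, ← hS]
    exact Multiset.count_map_eq_count' f S hf y
  · intro y hy
    rw [hone y hy]
  · intro a b _ _ ha hb y hy
    rw [← hcomp a b y hy, ha _ (htor _ y hy), hb y hy]
  · intro a _ ha y hy
    rw [← ha _ (htor _ y hy), hcomp, mul_inv_cancel, hone y hy]
    exact hy

theorem exists_orbit [DecidableEq K] {S : Multiset K} {x : K} {m : ℕ} [NeZero m] (hx : orderOf x = m)
    {T : Set (ZMod m)ˣ} (hT : StableUnder S m T) :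
    ∃ O : Finset K, O.card = Nat.card (Subgroup.closure T) ∧
      ∀ y ∈ O, orderOf y = m ∧ S.count y = S.count x := by
  classical
  set H := Subgroup.closure T
  have hxm : x ^ m = 1 := hx ▸ pow_orderOf_eq_one x
  refine ⟨Finset.univ.image (fun h : H => x ^ ((h : (ZMod m)ˣ) : ZMod m).val), ?_, ?_⟩
  · rw [Finset.card_image_of_injective, Finset.card_univ, Nat.card_eq_fintype_card]
    intro a b hab
    have hx0 : IsOfFinOrder x := orderOf_pos_iff.1 (hx ▸ Nat.pos_of_ne_zero (NeZero.ne m))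
    have h1 := (IsOfFinOrder.pow_eq_pow_iff_modEq hx0).1 hab
    rw [hx, ← ZMod.natCast_eq_natCast_iff, ZMod.natCast_zmod_val, ZMod.natCast_zmod_val] at h1
    exact Subtype.ext (Units.ext h1)
  · intro y hy
    obtain ⟨h, -, rfl⟩ := Finset.mem_image.1 hy
    refine ⟨?_, count_pow hT h.2 x hxm⟩
    rw [Nat.Coprime.orderOf_pow, hx]
    rw [hx]
    exact (ZMod.val_coe_unit_coprime _).symm

theorem sum_count_le [DecidableEq K] (S : Multiset K) (O : Finset K) :
    ∑ y ∈ O, S.count y ≤ Multiset.card S := by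
  rw [← Multiset.toFinset_sum_count_eq S]
  calc ∑ y ∈ O, S.count y = ∑ y ∈ O.filter (· ∈ S), S.count y :=
        (Finset.sum_filter_of_ne fun y _ hy => Multiset.count_ne_zero.1 hy).symm
    _ ≤ ∑ y ∈ S.toFinset, S.count y := Finset.sum_le_sum_of_subset fun y hy =>
        Multiset.mem_toFinset.2 (Finset.mem_filter.1 hy).2

/-- A root occurring twice gives a bound on the orbit. -/
theorem card_closure_bound [DecidableEq K] {S : Multiset K} {r n : ℕ} (hr : r.Prime)
    (hS : Multiset.card S = n) (hroot : ∀ x ∈ S, x ^ r = 1) (hne : ∃ x ∈ S, x ≠ 1) (hnd : ¬ S.Nodup)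
    {T : Set (ZMod r)ˣ} (hT : StableUnder S r T) :
    2 * Nat.card (Subgroup.closure T) ≤ n ∨ Nat.card (Subgroup.closure T) + 2 ≤ n := by
  haveI : NeZero r := ⟨hr.ne_zero⟩
  haveI : Fact r.Prime := ⟨hr⟩
  obtain ⟨x, hx⟩ : ∃ x, 2 ≤ S.count x := by
    rw [Multiset.nodup_iff_count_le_one] at hnd
    push Not at hnd
    exact hnd
  have hord : ∀ y ∈ S, y ≠ 1 → orderOf y = r := fun y hy h1 => orderOf_eq_prime (hroot y hy) h1
  have hxS : x ∈ S := Multiset.count_pos.1 (by omega)
  by_cases h1 : x = 1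
  · subst h1
    obtain ⟨y, hy, hy1⟩ := hne
    obtain ⟨O, hO, hOy⟩ := exists_orbit (hord y hy hy1) hT
    right
    have h1O : (1 : K) ∉ O := fun h => by
      have := (hOy 1 h).1
      rw [orderOf_one] at this
      exact hr.one_lt.ne this
    calc Nat.card (Subgroup.closure T) + 2 ≤ (∑ z ∈ O, S.count z) + S.count 1 := by
          refine add_le_add ?_ hx
          rw [← hO, Finset.card_eq_sum_ones]
          refine Finset.sum_le_sum fun z hz => ?_
          rw [(hOy z hz).2]
          exact Multiset.one_le_count_iff_mem.2 hy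
      _ = ∑ z ∈ insert 1 O, S.count z := by rw [Finset.sum_insert h1O, add_comm]
      _ ≤ n := hS ▸ sum_count_le S _
  · obtain ⟨O, hO, hOy⟩ := exists_orbit (hord x hxS h1) hT
    left
    calc 2 * Nat.card (Subgroup.closure T) = ∑ z ∈ O, 2 := by rw [Finset.sum_const, hO, smul_eq_mul, mul_comm]
      _ ≤ ∑ z ∈ O, S.count z := Finset.sum_le_sum fun z hz => by rw [(hOy z hz).2]; exact hx
      _ ≤ n := hS ▸ sum_count_le S _

theorem card_closure_le [DecidableEq K] {S : Multiset K} {m n : ℕ} [NeZero m]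
    (hS : Multiset.card S = n) {x : K} (hxS : x ∈ S) (hx : orderOf x = m)
    {T : Set (ZMod m)ˣ} (hT : StableUnder S m T) : Nat.card (Subgroup.closure T) ≤ n := by
  obtain ⟨O, hO, hOy⟩ := exists_orbit hx hT
  calc Nat.card (Subgroup.closure T) = ∑ z ∈ O, 1 := by rw [← hO, Finset.card_eq_sum_ones]
    _ ≤ ∑ z ∈ O, S.count z := Finset.sum_le_sum fun z hz => by
        rw [(hOy z hz).2]; exact Multiset.one_le_count_iff_mem.2 hxS
    _ ≤ n := hS ▸ sum_count_le S _

theorem card_closure_add_le [DecidableEq K] {S : Multiset K} {r s n : ℕ} [NeZero r] [NeZero s]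
    (hrs : r ≠ s) (hS : Multiset.card S = n) {x y : K} (hxS : x ∈ S) (hx : orderOf x = r)
    (hyS : y ∈ S) (hy : orderOf y = s) {T : Set (ZMod r)ˣ} (hT : StableUnder S r T)
    {T' : Set (ZMod s)ˣ} (hT' : StableUnder S s T') :
    Nat.card (Subgroup.closure T) + Nat.card (Subgroup.closure T') ≤ n := by
  obtain ⟨O, hO, hOy⟩ := exists_orbit hx hT
  obtain ⟨O', hO', hOy'⟩ := exists_orbit hy hT'
  have hdis : Disjoint O O' := Finset.disjoint_left.2 fun z hz hz' =>
    hrs ((hOy z hz).1.symm.trans (hOy' z hz').1)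
  calc Nat.card (Subgroup.closure T) + Nat.card (Subgroup.closure T')
      = (∑ z ∈ O, 1) + ∑ z ∈ O', 1 := by
        rw [← hO, ← hO', Finset.card_eq_sum_ones, Finset.card_eq_sum_ones]
    _ ≤ (∑ z ∈ O, S.count z) + ∑ z ∈ O', S.count z := by
        refine add_le_add (Finset.sum_le_sum fun z hz => ?_) (Finset.sum_le_sum fun z hz => ?_)
        · rw [(hOy z hz).2]; exact Multiset.one_le_count_iff_mem.2 hxS
        · rw [(hOy' z hz).2]; exact Multiset.one_le_count_iff_mem.2 hyS
    _ = ∑ z ∈ O ∪ O', S.count z := (Finset.sum_union hdis).symm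
    _ ≤ n := hS ▸ sum_count_le S _

end CfsgLib.Classical.EigenOrbit
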