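import Cfsg.Agent.Lib.Classical.EigenOrbit.Linear

/-!
# Adjacency in the prime graph of `PSL`
-/

set_option autoImplicit false
set_option maxHeartbeats 800000

namespace CfsgLib.Classical.EigenOrbit

open scoped Matrix

variable {F : Type*} [Field F] [Fintype F]

theorem dvd_pow_sub_one {r d : ℕ} (h : orderOf ((Fintype.card F : ℕ) : ZMod r) ∣ d) :
    r ∣ Fintype.card F ^ d - 1 := by
  rw [← ZMod.natCast_eq_zero_iff, Nat.cast_sub (Nat.one_le_pow _ _ Fintype.card_pos), Nat.cast_pow,
    orderOf_dvd_iff_pow_eq_one.1 h, Nat.cast_one, sub_self]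

theorem pow_sub_one_dvd_card_SL {d n : ℕ} (hd : 2 ≤ d) (hdn : d ≤ n) :
    Fintype.card F ^ d - 1 ∣ Nat.card (Matrix.SpecialLinearGroup (Fin n) F) := by
  set q := Fintype.card F
  have h := card_SL (F := F) n (by omega)
  let i : Fin n := ⟨n - 1, by omega⟩
  let j : Fin n := ⟨n - d, by omega⟩
  have hij : i ≠ j := fun e => by have := congrArg Fin.val e; simp [i, j] at this; omega
  have h1 : (q ^ n - q ^ (i : ℕ)) * (q ^ n - q ^ (j : ℕ)) ∣ ∏ l : Fin n, (q ^ n - q ^ (l : ℕ)) := by
    rw [← Finset.prod_pair hij (f := fun l : Fin n => q ^ n - q ^ (l : ℕ))]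
    exact Finset.prod_dvd_prod_of_subset _ _ _ (Finset.subset_univ _)
  have e1 : q ^ n - q ^ (i : ℕ) = q ^ (n - 1) * (q - 1) := by
    rw [Nat.mul_sub, mul_one, ← pow_succ, Nat.sub_add_cancel (by omega)]
  have e2 : q ^ n - q ^ (j : ℕ) = q ^ (n - d) * (q ^ d - 1) := by
    rw [Nat.mul_sub, mul_one, ← pow_add, Nat.sub_add_cancel hdn]
  have h2 : (q - 1) * (q ^ d - 1) ∣ (q - 1) * Nat.card (Matrix.SpecialLinearGroup (Fin n) F) := by
    rw [h]
    refine dvd_trans ?_ h1
    rw [e1, e2]
    exact ⟨q ^ (n - 1) * q ^ (n - d), by ring⟩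
  exact Nat.dvd_of_mul_dvd_mul_left (by have := Fintype.one_lt_card (α := F); omega) h2

theorem card_dvd_card_SL {n : ℕ} (hn : 2 ≤ n) :
    Fintype.card F ∣ Nat.card (Matrix.SpecialLinearGroup (Fin n) F) := by
  set q := Fintype.card F
  have h := card_SL (F := F) n (by omega)
  let i : Fin n := ⟨n - 1, by omega⟩
  have h1 : q ∣ (q - 1) * Nat.card (Matrix.SpecialLinearGroup (Fin n) F) := by
    rw [h]
    refine dvd_trans ?_ (Finset.dvd_prod_of_mem _ (Finset.mem_univ i))
    exact Nat.dvd_sub (dvd_pow_self q (by omega)) (dvd_pow_self q (show n - 1 ≠ 0 by omega))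
  have hc : Nat.Coprime q (q - 1) := by
    have := Fintype.one_lt_card (α := F)
    exact ((Nat.coprime_self_sub_right (show 1 ≤ q by omega)).2 (Nat.coprime_one_right q))
  exact hc.dvd_of_dvd_mul_left h1

theorem not_dvd_sub_one {r k : ℕ} (hk : k = orderOf ((Fintype.card F : ℕ) : ZMod r)) (h2 : 2 ≤ k) :
    ¬ r ∣ Fintype.card F - 1 := fun h => by
  rw [← ZMod.natCast_eq_zero_iff, Nat.cast_sub Fintype.card_pos, Nat.cast_one, sub_eq_zero] at h
  rw [h, orderOf_one] at hk
  omega

theorem exists_GL_orderOf_dvd {n d m : ℕ} (hd : 1 ≤ d) (hdn : d ≤ n)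
    (hm : orderOf ((Fintype.card F : ℕ) : ZMod m) ∣ d) : ∃ g : GL (Fin n) F, orderOf g = m :=
  Known.GLOrders.exists_orderOf_eq_of_dvd hd hdn (dvd_pow_sub_one hm)

/-- The commuting pair used when `r ∣ q - 1`. -/
theorem exists_diag_vector {n r : ℕ} (hn : 3 ≤ n) (hr : r.Prime) (hdvd : r ∣ Fintype.card F - 1)
    (hex : ¬ (n = 3 ∧ r = 3 ∧ ¬ 9 ∣ Fintype.card F - 1)) :
    ∃ d : Fin n → Fˣ, ∏ i, d i = 1 ∧ d ⟨0, by omega⟩ = d ⟨1, by omega⟩ ∧
      (∃ i j, d i ≠ d j) ∧ ∀ i j, d i ^ r = d j ^ r := by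
  classical
  have hcard : Nat.card Fˣ = Fintype.card F - 1 := card_units_field
  haveI : Fact r.Prime := ⟨hr⟩
  obtain ⟨ζ, hζ⟩ := exists_prime_orderOf_dvd_card' r (hcard ▸ hdvd)
  have hζr : ζ ^ r = 1 := hζ ▸ pow_orderOf_eq_one ζ
  have hζ1 : ζ ≠ 1 := fun e => hr.one_lt.ne' (by rw [← hζ, e, orderOf_one])
  by_cases h3 : n = 3
  · subst h3
    obtain ⟨l, hl, hl'⟩ : ∃ l : Fˣ, l ^ (3 * r) = 1 ∧ l ^ 3 ≠ 1 := by
      by_cases h : r = 3
      · have h9 : 9 ∣ Fintype.card F - 1 := Classical.not_not.1 fun h9 => hex ⟨rfl, h, h9⟩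
        obtain ⟨g, hg⟩ := IsCyclic.exists_ofOrder_eq_natCard (α := Fˣ)
        obtain ⟨c, hc⟩ := h9
        rw [hcard, hc] at hg
        have hc0 : c ≠ 0 := by
          rintro rfl
          have := orderOf_pos g
          omega
        refine ⟨g ^ c, ?_, fun e => ?_⟩
        · rw [h, ← pow_mul, show c * (3 * 3) = 9 * c by ring, ← hg, pow_orderOf_eq_one]
        · rw [← pow_mul] at e
          have := Nat.le_of_dvd (by omega) (hg ▸ orderOf_dvd_of_pow_eq_one e)
          omega
      · refine ⟨ζ, by rw [mul_comm, pow_mul, hζr, one_pow], fun e => h ?_⟩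
        have := orderOf_dvd_of_pow_eq_one e
        rw [hζ] at this
        exact (Nat.prime_dvd_prime_iff_eq hr Nat.prime_three).1 this
    refine ⟨![l, l, l⁻¹ * l⁻¹], ?_, rfl, ⟨0, 2, fun e => hl' ?_⟩, ?_⟩
    · rw [Fin.prod_univ_three]
      show l * l * (l⁻¹ * l⁻¹) = 1
      group
    · change l = l⁻¹ * l⁻¹ at e
      have e2 : l * (l * l) = l⁻¹ * l⁻¹ * (l * l) := congrArg (· * (l * l)) e
      rw [pow_three, e2]
      group
    · have key : (l⁻¹ * l⁻¹) ^ r = l ^ r := by
        rw [mul_pow, inv_pow, ← mul_inv, inv_eq_iff_mul_eq_one, ← pow_add, ← pow_add,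
          show r + r + r = 3 * r by ring, hl]
      intro i j
      fin_cases i <;> fin_cases j <;> simp [key]
  · let a : Fin n := ⟨2, by omega⟩
    let b : Fin n := ⟨3, by omega⟩
    refine ⟨fun i => if i = a then ζ else if i = b then ζ⁻¹ else 1, ?_, ?_, ⟨a, ⟨0, by omega⟩, ?_⟩, ?_⟩
    · rw [Finset.prod_eq_mul a b (by simp [a, b, Fin.ext_iff])]
      · simp [a, b, Fin.ext_iff]
      · intro c _ hc
        simp [hc.1, hc.2]
      · simp
      · simp
    · simp [a, b, Fin.ext_iff]
    · simpa [a, b, Fin.ext_iff] using hζ1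
    · intro i j
      have h1 : ∀ i : Fin n, (if i = a then ζ else if i = b then ζ⁻¹ else 1) ^ r = 1 := fun i => by
        split_ifs <;> simp [hζr]
      rw [h1, h1]

variable (p : ℕ) [Fact p.Prime] [CharP F p]

include p

theorem coprime_center_of_ne {n r : ℕ} (hn : 1 ≤ n) (hr : r.Prime) (h : ¬ r ∣ Fintype.card F - 1) :
    Nat.Coprime r (Nat.card (Subgroup.center (Matrix.SpecialLinearGroup (Fin n) F))) :=
  coprime_card_center_SL hn ((Nat.Prime.coprime_iff_not_dvd hr).2 h)

theorem char_coprime_sub_one : Nat.Coprime p (Fintype.card F - 1) := by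
  obtain ⟨a, ha⟩ := exists_card_eq_pow p (F := F)
  refine (Nat.Prime.coprime_iff_not_dvd Fact.out).2 fun h => ?_
  have h1 : p ∣ Fintype.card F := by
    rw [ha]
    refine dvd_pow_self p ?_
    rintro rfl
    rw [pow_zero] at ha
    exact (Fintype.one_lt_card (α := F)).ne' ha
  have h2 := Nat.dvd_sub h1 h
  rw [Nat.sub_sub_self Fintype.card_pos] at h2
  exact (Fact.out : p.Prime).not_dvd_one h2

theorem le_dim_of_dvd {n r : ℕ} (hr : r.Prime) (hrp : r ≠ p)
    (hrG : r ∣ Nat.card (Matrix.ProjectiveSpecialLinearGroup (Fin n) F)) :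
    orderOf ((Fintype.card F : ℕ) : ZMod r) ≤ n := by
  haveI : Fact r.Prime := ⟨hr⟩
  have h : r ∣ Nat.card (Matrix.SpecialLinearGroup (Fin n) F) :=
    hrG.trans (Subgroup.card_quotient_dvd_card _)
  obtain ⟨g, hg⟩ := exists_prime_orderOf_dvd_card' r h
  rw [← orderOf_coe_SL] at hg
  have := orderOf_le_card p hr hrp (M := (g : Matrix (Fin n) (Fin n) F))
    (hg ▸ pow_orderOf_eq_one _) (fun e => hr.one_lt.ne' (by rw [← hg, e, orderOf_one]))
  rwa [Fintype.card_fin] at this

/-- Adjacency of two primes different from the characteristic. -/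
theorem psl_adjacent_iff (n : ℕ) (hn : 2 ≤ n) (r s : ℕ) (hr : r.Prime) (hs : s.Prime) (hrp : r ≠ p)
    (hsp : s ≠ p) (hrs : r ≠ s)
    (hrG : r ∣ Nat.card (Matrix.ProjectiveSpecialLinearGroup (Fin n) F))
    (hsG : s ∣ Nat.card (Matrix.ProjectiveSpecialLinearGroup (Fin n) F))
    (k l : ℕ) (hk : k = orderOf ((Fintype.card F : ℕ) : ZMod r))
    (hl : l = orderOf ((Fintype.card F : ℕ) : ZMod s)) (h2k : 2 ≤ k) (hkl : k ≤ l) :
    (r * s ∉ Set.range (orderOf : Matrix.ProjectiveSpecialLinearGroup (Fin n) F → ℕ)) ↔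
      (n < k + l ∧ ¬ k ∣ l) := by
  have hr1 := not_dvd_sub_one hk h2k
  have hs1 := not_dvd_sub_one hl (h2k.trans hkl)
  have hcop : Nat.Coprime (r * s) (Fintype.card F - 1) :=
    Nat.Coprime.mul_left ((Nat.Prime.coprime_iff_not_dvd hr).2 hr1) ((Nat.Prime.coprime_iff_not_dvd hs).2 hs1)
  have hrs' : Nat.Coprime r s := (Nat.coprime_primes hr hs).2 hrs
  rw [mem_range_orderOf_mk_iff (coprime_card_center_SL (by omega) hcop)]
  have hkn : k ≤ n := hk ▸ le_dim_of_dvd p hr hrp hrG
  have hln : l ≤ n := hl ▸ le_dim_of_dvd p hs hsp hsG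
  constructor
  · intro hno
    by_contra hc
    obtain ⟨g, hg⟩ : ∃ g : GL (Fin n) F, orderOf g = r * s := by
      by_cases hdiv : k ∣ l
      · refine Known.GLOrders.exists_orderOf_eq_of_dvd (d := l) (by omega) hln ?_
        exact hrs'.mul_dvd_of_dvd_of_dvd (dvd_pow_sub_one (hk ▸ hdiv)) (dvd_pow_sub_one (dvd_of_eq hl.symm))
      · obtain ⟨x, hx⟩ := exists_GL_orderOf_dvd (F := F) (n := k) (d := k) (m := r) (by omega) le_rfl
          (dvd_of_eq hk.symm)
        obtain ⟨y, hy⟩ := exists_GL_orderOf_dvd (F := F) (n := l) (d := l) (m := s) (by omega) le_rfl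
          (dvd_of_eq hl.symm)
        obtain ⟨g, hg⟩ := exists_orderOf_pair (n := n) (show k + l ≤ n from not_lt.1 fun h => hc ⟨h, hdiv⟩) x y
        exact ⟨g, by rw [hg, hx, hy, hrs'.lcm_eq_mul]⟩
    obtain ⟨g', hg'⟩ := exists_SL_of_GL g (hg ▸ hcop)
    exact hno ⟨g', hg'.trans hg⟩
  · rintro ⟨hn', hdiv⟩ ⟨g, hg⟩
    refine hdiv (dvd_of_orderOf_mul p hr hs hrp hsp hrs (M := (g : Matrix (Fin n) (Fin n) F)) ?_ ?_ ?_
      hk hl hkl (by rwa [Fintype.card_fin]))
    all_goals rw [← orderOf_coe_SL] at hg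
    · exact hg ▸ pow_orderOf_eq_one _
    · intro e
      have := Nat.le_of_dvd hr.pos (hg ▸ orderOf_dvd_of_pow_eq_one e)
      nlinarith [hs.two_le, hr.pos]
    · intro e
      have := Nat.le_of_dvd hs.pos (hg ▸ orderOf_dvd_of_pow_eq_one e)
      nlinarith [hr.two_le, hs.pos]

omit [Fintype F] in
theorem isNilpotent_sub_one {n : ℕ} (A : Matrix.SpecialLinearGroup (Fin n) F) (hA : A ^ p = 1)
    (hn : 0 < n) : IsNilpotent ((A : Matrix (Fin n) (Fin n) F) - 1) := by
  haveI : Nonempty (Fin n) := ⟨⟨0, hn⟩⟩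
  refine ⟨p, ?_⟩
  rw [sub_pow_char_of_commute p (Commute.one_right _), one_pow, ← Matrix.SpecialLinearGroup.coe_pow, hA,
    Matrix.SpecialLinearGroup.coe_one, sub_self]

/-- Commuting with an element of order `p` bounds the orbit. -/
theorem commuting_orbit_bound {n : ℕ} (hn : 0 < n) {r : ℕ} (hr : r.Prime) (hrp : r ≠ p)
    {A B : Matrix.SpecialLinearGroup (Fin n) F} (hA : A ^ p = 1) (hA1 : A ≠ 1) (hc : Commute A B)
    (hdvd : r ∣ orderOf B) :
    2 * orderOf ((Fintype.card F : ℕ) : ZMod r) ≤ n ∨ orderOf ((Fintype.card F : ℕ) : ZMod r) + 2 ≤ n := by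
  obtain ⟨c, hcB⟩ := hdvd
  have h0 := orderOf_pos B
  have hC : orderOf (B ^ c) = r := by
    rw [orderOf_pow' _ (by rintro rfl; omega), hcB, Nat.gcd_eq_right (Dvd.intro_left r rfl),
      Nat.mul_div_cancel _ (Nat.pos_of_ne_zero (by rintro rfl; omega))]
  rw [← orderOf_coe_SL] at hC
  have hcm : Commute ((B ^ c : Matrix.SpecialLinearGroup (Fin n) F) : Matrix (Fin n) (Fin n) F)
      ((A : Matrix (Fin n) (Fin n) F) - 1) := by
    refine Commute.sub_right ?_ (Commute.one_right _)
    exact congrArg (fun g : Matrix.SpecialLinearGroup (Fin n) F => (g : Matrix (Fin n) (Fin n) F))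
      (hc.symm.pow_left c).eq
  have := orbit_bound p hr hrp (hC ▸ pow_orderOf_eq_one _)
    (fun e => hr.one_lt.ne' (by rw [← hC, e, orderOf_one])) hcm (isNilpotent_sub_one p A hA hn)
    (sub_ne_zero.2 fun e => hA1 (Subtype.ext e))
  rwa [Fintype.card_fin] at this

/-- Primes of elements commuting with an element of order `p`. -/
theorem psl_commuting_primes (n : ℕ) (hn : 4 ≤ n)
    (a b : Matrix.ProjectiveSpecialLinearGroup (Fin n) F) (ha : orderOf a = p) (hab : Commute a b) :
    (orderOf b).primeFactors ⊆ (Nat.card (Matrix.SpecialLinearGroup (Fin (n - 2)) F)).primeFactors := by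
  intro r hr
  obtain ⟨hrp', hrb, -⟩ := Nat.mem_primeFactors.1 hr
  refine Nat.mem_primeFactors.2 ⟨hrp', ?_, Nat.card_pos.ne'⟩
  by_cases hrp : r = p
  · subst hrp
    obtain ⟨e, he⟩ := exists_card_eq_pow r (F := F)
    refine dvd_trans ?_ (card_dvd_card_SL (show 2 ≤ n - 2 by omega))
    rw [he]
    refine dvd_pow_self r ?_
    rintro rfl
    rw [pow_zero] at he
    exact (Fintype.one_lt_card (α := F)).ne' he
  obtain ⟨A, B, hA, rfl, rfl, hc⟩ := exists_lift_commuting
    (coprime_card_center_SL (show 1 ≤ n by omega) (char_coprime_sub_one p (F := F)))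
    (ha ▸ pow_orderOf_eq_one a) hab
  have hA1 : A ≠ 1 := fun e => (Fact.out : p.Prime).ne_one (by rw [← ha, e, QuotientGroup.mk_one, orderOf_one])
  have hb := commuting_orbit_bound p (show 0 < n by omega) hrp' hrp hA hA1 hc
    (hrb.trans (orderOf_map_dvd (QuotientGroup.mk' _) B))
  haveI : NeZero r := ⟨hrp'.ne_zero⟩
  have hpos := orderOf_cast_pos (coprime_card p (not_dvd_prime p hrp' hrp) (F := F))
  by_cases h1 : orderOf ((Fintype.card F : ℕ) : ZMod r) = 1
  · exact (dvd_pow_sub_one (d := 2) (by rw [h1]; exact one_dvd _)).trans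
      (pow_sub_one_dvd_card_SL le_rfl (by omega))
  · exact (dvd_pow_sub_one (dvd_refl _)).trans (pow_sub_one_dvd_card_SL (by omega) (by omega))

/-- No element of order `r * p` in the exceptional cases with `r ∣ q - 1`. -/
theorem no_split_pair {n r : ℕ} (hr : r.Prime) (hrp : r ≠ p)
    (hcase : n = 2 ∨ (n = 3 ∧ r = 3 ∧ ¬ 9 ∣ Fintype.card F - 1))
    {A B : Matrix.SpecialLinearGroup (Fin n) F} (hA : A ^ p = 1) (hA1 : A ≠ 1) (hc : Commute A B)
    (hB : B ^ r ∈ Subgroup.center (Matrix.SpecialLinearGroup (Fin n) F)) :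
    B ∈ Subgroup.center (Matrix.SpecialLinearGroup (Fin n) F) := by
  classical
  have hn : 0 < n := by omega
  haveI : Nonempty (Fin n) := ⟨⟨0, hn⟩⟩
  obtain ⟨c, hc1, hc2⟩ := Matrix.SpecialLinearGroup.mem_center_iff.1 hB
  set M := (B : Matrix (Fin n) (Fin n) F) with hMdef
  have hc0 : c ≠ 0 := by
    rintro rfl
    rw [zero_pow Fintype.card_ne_zero] at hc1
    exact zero_ne_one hc1
  have hMr : M ^ r = Matrix.scalar (Fin n) c := by
    rw [hc2, Matrix.SpecialLinearGroup.coe_pow]
  have hM : M ^ (r * (Fintype.card F - 1)) = 1 := by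
    rw [pow_mul, hMr, ← map_pow, FiniteField.pow_card_sub_one_eq_one c hc0, map_one]
  have hN : ((r * (Fintype.card F - 1) : ℕ) : F) ≠ 0 := cast_ne_zero_of_not_dvd p fun h =>
    (Nat.Prime.dvd_mul Fact.out).1 h |>.elim (not_dvd_prime p hr hrp)
      ((Nat.Prime.coprime_iff_not_dvd Fact.out).1 (char_coprime_sub_one p (F := F)))
  have hcm : Commute M ((A : Matrix (Fin n) (Fin n) F) - 1) := Commute.sub_right
    (congrArg (fun g : Matrix.SpecialLinearGroup (Fin n) F => (g : Matrix (Fin n) (Fin n) F)) hc.symm.eq)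
    (Commute.one_right _)
  have hnd := not_nodup_ev hN hM hcm (isNilpotent_sub_one p A hA hn)
    (sub_ne_zero.2 fun e => hA1 (Subtype.ext e))
  obtain ⟨x, hx⟩ : ∃ x, 2 ≤ (ev M).count x := by
    rw [Multiset.nodup_iff_count_le_one] at hnd
    push Not at hnd
    exact hnd
  have hxS : x ∈ ev M := Multiset.count_pos.1 (by omega)
  have hcard := card_ev M
  rw [Fintype.card_fin] at hcard
  -- it suffices that all roots coincide
  suffices hall : ∀ y ∈ ev M, y = x by
    have h1 := eq_scalar_of_roots _ (natCast_ne_zero hN) (map_pow_eq_one hM) hall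
    rw [Matrix.SpecialLinearGroup.mem_center_iff]
    have hscal : Matrix.scalar (Fin n) (M ⟨0, hn⟩ ⟨0, hn⟩) = M := by
      ext i j
      apply (algebraMap F (AlgebraicClosure F)).injective
      have e := congrFun (congrFun h1 i) j
      have e0 := congrFun (congrFun h1 ⟨0, hn⟩) ⟨0, hn⟩
      rw [Matrix.map_apply] at e e0
      rw [Matrix.diagonal_apply_eq] at e0
      rw [e, Matrix.scalar_apply]
      by_cases hij : i = j
      · subst hij
        rw [Matrix.diagonal_apply_eq, Matrix.diagonal_apply_eq, e0]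
      · rw [Matrix.diagonal_apply_ne _ hij, Matrix.diagonal_apply_ne _ hij, map_zero]
    refine ⟨_, ?_, hscal⟩
    have := congrArg Matrix.det hscal
    rw [Matrix.scalar_apply, Matrix.det_diagonal, Finset.prod_const, Finset.card_univ] at this
    rw [this]
    exact B.det_coe
  intro y hy
  by_contra hyx
  obtain ⟨S', hS'⟩ := Multiset.exists_cons_of_mem hxS
  have hxS' : x ∈ S' := by
    rw [hS', Multiset.count_cons_self] at hx
    exact Multiset.count_pos.1 (by omega)
  obtain ⟨S'', hS''⟩ := Multiset.exists_cons_of_mem hxS'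
  rw [hS'] at hy hcard
  rw [hS''] at hy hcard
  rw [Multiset.card_cons, Multiset.card_cons] at hcard
  have hy' : y ∈ S'' := by simpa [hyx] using hy
  have h3 : n = 3 ∧ r = 3 ∧ ¬ 9 ∣ Fintype.card F - 1 := by
    refine hcase.resolve_left fun h2 => ?_
    have := Multiset.card_pos_iff_exists_mem.2 ⟨y, hy'⟩
    omega
  obtain ⟨hn3, hr3, h9⟩ := h3
  have hS3 : S'' = {y} := by
    obtain ⟨z, hz⟩ := Multiset.card_eq_one.1 (show Multiset.card S'' = 1 by omega)
    rw [hz, Multiset.mem_singleton] at hy'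
    rw [hz, hy']
  have hev : ev M = x ::ₘ x ::ₘ {y} := by rw [hS', hS'', hS3]
  -- Frobenius fixes the double root
  obtain ⟨f, hf, hfS, hfx⟩ := exists_frob_stable p hN hM
  have hxq : x ^ Fintype.card F = x := by
    rw [← hfx]
    by_contra hne
    have h1 : (ev M).count (f x) = (ev M).count x := by
      conv_lhs => rw [← hfS]
      exact Multiset.count_map_eq_count' f _ hf x
    rw [hev] at h1
    rw [Multiset.count_cons_of_ne hne, Multiset.count_cons_of_ne hne, Multiset.count_cons_self,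
      Multiset.count_cons_self] at h1
    have := Multiset.count_le_card (f x) ({y} : Multiset (AlgebraicClosure F))
    simp at this h1
    omega
  have hdet : (M.map (algebraMap F (AlgebraicClosure F))).det = 1 := by
    rw [← RingHom.mapMatrix_apply, ← RingHom.map_det, hMdef, Matrix.SpecialLinearGroup.det_coe, map_one]
  rw [Matrix.det_eq_prod_roots_charpoly] at hdet
  change (ev M).prod = 1 at hdet
  rw [hev, Multiset.prod_cons, Multiset.prod_cons, Multiset.prod_singleton] at hdet
  have hpow : ∀ z ∈ ev M, z ^ r = algebraMap F (AlgebraicClosure F) c := by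
    intro z hz
    have h1 : z ^ r ∈ ev (M ^ r) := by
      rw [ev_pow hN hM]
      exact Multiset.mem_map_of_mem _ hz
    rw [hMr, ev, Matrix.scalar_apply, Matrix.diagonal_map (map_zero _), Matrix.charpoly_diagonal,
      Finset.prod_const, Polynomial.roots_pow, Polynomial.roots_X_sub_C, Multiset.mem_nsmul] at h1
    exact Multiset.mem_singleton.1 h1.2
  subst hr3
  have hx3 : x ^ 3 = y ^ 3 := (hpow x (by rw [hev]; simp)).trans (hpow y (by rw [hev]; simp)).symm
  have hx0 : x ≠ 0 := by rintro rfl; simp at hdet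
  have h9x : x ^ 9 = 1 := by
    have e : (x * (x * y)) ^ 3 = 1 := by rw [hdet, one_pow]
    linear_combination e + x ^ 6 * hx3
  have h3x : x ^ 3 ≠ 1 := fun e => hyx (by
    have e1 : x * (x * y) = x ^ 3 := by rw [hdet, e]
    have : x ^ 2 * y = x ^ 2 * x := by linear_combination e1
    exact mul_left_cancel₀ (pow_ne_zero 2 hx0) this)
  haveI : Fact (Nat.Prime 3) := ⟨Nat.prime_three⟩
  have hord : orderOf x = 9 :=
    orderOf_eq_prime_pow (p := 3) (n := 1) (by simpa using h3x) (by simpa using h9x)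
  refine h9 ?_
  rw [← hord]
  refine orderOf_dvd_of_pow_eq_one (mul_left_cancel₀ hx0 ?_)
  rw [← pow_succ', Nat.sub_add_cancel Fintype.card_pos, hxq, mul_one]

/-- An element of order `r * p` when `r ∣ q - 1`. -/
theorem exists_split_pair {n r : ℕ} (hn : 3 ≤ n) (hr : r.Prime) (hrp : r ≠ p)
    (hdvd : r ∣ Fintype.card F - 1) (hex : ¬ (n = 3 ∧ r = 3 ∧ ¬ 9 ∣ Fintype.card F - 1)) :
    ∃ x : Matrix.ProjectiveSpecialLinearGroup (Fin n) F, orderOf x = r * p := by
  classical
  haveI : Fact r.Prime := ⟨hr⟩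
  haveI : Nonempty (Fin n) := ⟨⟨0, by omega⟩⟩
  obtain ⟨d, hd1, hd01, ⟨i0, j0, hne⟩, hdr⟩ := exists_diag_vector hn hr hdvd hex
  let a : Fin n := ⟨0, by omega⟩
  let b : Fin n := ⟨1, by omega⟩
  have hab : a ≠ b := by simp [a, b, Fin.ext_iff]
  let D : Matrix.SpecialLinearGroup (Fin n) F := ⟨Matrix.diagonal fun i => (d i : F), by
    rw [Matrix.det_diagonal, ← Units.coe_prod, hd1, Units.val_one]⟩
  let T : Matrix.SpecialLinearGroup (Fin n) F :=
    ⟨Matrix.transvection a b 1, Matrix.det_transvection_of_ne a b hab 1⟩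
  have hcomm : Commute D T := Subtype.ext (by
    show Matrix.diagonal (fun i => (d i : F)) * Matrix.transvection a b 1 =
      Matrix.transvection a b 1 * Matrix.diagonal fun i => (d i : F)
    rw [Matrix.transvection, mul_add, add_mul, mul_one, one_mul]
    congr 1
    ext i j
    rw [Matrix.diagonal_mul, Matrix.mul_diagonal, Matrix.single_apply]
    split_ifs with h
    · rw [← h.1, ← h.2, show d a = d b from hd01]
      ring
    · ring)
  let π := QuotientGroup.mk' (Subgroup.center (Matrix.SpecialLinearGroup (Fin n) F))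
  have hD : orderOf (π D) = r := by
    refine orderOf_eq_prime ?_ ?_
    · rw [← map_pow, QuotientGroup.mk'_apply, QuotientGroup.eq_one_iff,
        Matrix.SpecialLinearGroup.mem_center_iff]
      have hDr : ((D ^ r : Matrix.SpecialLinearGroup (Fin n) F) : Matrix (Fin n) (Fin n) F) =
          Matrix.scalar (Fin n) ((d a : F) ^ r) := by
        rw [Matrix.SpecialLinearGroup.coe_pow]
        show (Matrix.diagonal fun i => (d i : F)) ^ r = _
        rw [Matrix.diagonal_pow, Matrix.scalar_apply]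
        congr 1
        funext i
        show (d i : F) ^ r = _
        rw [← Units.val_pow_eq_pow_val, ← Units.val_pow_eq_pow_val, hdr i a]
      refine ⟨_, ?_, hDr.symm⟩
      have h1 := congrArg Matrix.det hDr
      rw [Matrix.SpecialLinearGroup.det_coe, Matrix.scalar_apply, Matrix.det_diagonal,
        Finset.prod_const, Finset.card_univ] at h1
      exact h1.symm
    · intro h
      rw [QuotientGroup.mk'_apply, QuotientGroup.eq_one_iff, Matrix.SpecialLinearGroup.mem_center_iff] at h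
      obtain ⟨c, -, hc⟩ := h
      have hval : ∀ i, (d i : F) = c := fun i => by
        have := congrFun (congrFun hc i) i
        simpa [D] using this.symm
      exact hne (Units.ext ((hval i0).trans (hval j0).symm))
  have hT : orderOf (π T) = p := by
    refine orderOf_eq_prime ?_ ?_
    · rw [← map_pow]
      have : T ^ p = 1 := Subtype.ext (by
        rw [Matrix.SpecialLinearGroup.coe_pow, Matrix.SpecialLinearGroup.coe_one]
        show (Matrix.transvection a b (1 : F)) ^ p = 1
        rw [Matrix.transvection, add_pow_char_of_commute p (Commute.one_left _), one_pow,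
          show p = (p - 2) + 2 by have := (Fact.out : p.Prime).two_le; omega, pow_add, pow_two,
          Matrix.single_mul_single_of_ne (h := hab.symm), mul_zero, add_zero])
      rw [this, map_one]
    · intro h
      rw [QuotientGroup.mk'_apply, QuotientGroup.eq_one_iff, Matrix.SpecialLinearGroup.mem_center_iff] at h
      obtain ⟨c, -, hc⟩ := h
      have := congrFun (congrFun hc a) b
      simp [T, Matrix.transvection, hab] at this
  refine ⟨π (D * T), ?_⟩
  rw [map_mul, (hcomm.map π).orderOf_mul_eq_mul_orderOf_of_coprime (by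
    rw [hD, hT]; exact (Nat.coprime_primes hr Fact.out).2 hrp), hD, hT]

/-- Adjacency of a prime and the characteristic. -/
theorem psl_char_adjacent_iff (n : ℕ) (hn : 2 ≤ n) (r : ℕ) (hr : r.Prime) (hrp : r ≠ p)
    (k : ℕ) (hk : k = orderOf ((Fintype.card F : ℕ) : ZMod r)) :
    (r * p ∉ Set.range (orderOf : Matrix.ProjectiveSpecialLinearGroup (Fin n) F → ℕ)) ↔
      (n - 2 < k ∨ (n = 3 ∧ r = 3 ∧ 3 ∣ Fintype.card F - 1 ∧ ¬ 9 ∣ Fintype.card F - 1)) := by
  haveI : NeZero r := ⟨hr.ne_zero⟩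
  haveI : Fact r.Prime := ⟨hr⟩
  have hq := coprime_card p (not_dvd_prime p hr hrp) (F := F)
  have hk0 : 0 < k := hk ▸ orderOf_cast_pos hq
  have hcp : Nat.Coprime r p := (Nat.coprime_primes hr Fact.out).2 hrp
  have hone : r ∣ Fintype.card F - 1 ↔ k = 1 := by
    refine ⟨fun h => ?_, fun h => ?_⟩
    · by_contra hne
      exact not_dvd_sub_one hk (by omega) h
    · simpa using dvd_pow_sub_one (r := r) (d := 1) (by rw [← hk, h])
  constructor
  · intro hno
    by_contra hc
    push Not at hc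
    obtain ⟨hkn, hex⟩ := hc
    refine hno ?_
    by_cases h1 : k = 1
    · obtain ⟨x, hx⟩ := exists_split_pair p (n := n) (by omega) hr hrp (hone.2 h1)
        (fun h => h.2.2 (hex h.1 h.2.1 (h.2.1 ▸ hone.2 h1)))
      exact ⟨x, hx⟩
    · obtain ⟨x, hx⟩ := exists_GL_orderOf_dvd (F := F) (n := k) (d := k) (m := r) (by omega) le_rfl
        (dvd_of_eq hk.symm)
      obtain ⟨u, hu⟩ : ∃ u : GL (Fin 2) F, orderOf u = p := by
        refine exists_prime_orderOf_dvd_card' p ?_
        obtain ⟨u, hu⟩ := exists_prime_orderOf_dvd_card' p (dvd_trans (by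
          obtain ⟨e, he⟩ := exists_card_eq_pow p (F := F)
          rw [he]
          refine dvd_pow_self p ?_
          rintro rfl
          rw [pow_zero] at he
          exact (Fintype.one_lt_card (α := F)).ne' he) (card_dvd_card_SL (F := F) (n := 2) le_rfl))
        rw [← hu, ← orderOf_injective Matrix.SpecialLinearGroup.toGL Matrix.SpecialLinearGroup.toGL_injective]
        exact orderOf_dvd_natCard _
      obtain ⟨g, hg⟩ := exists_orderOf_pair (n := n) (show k + 2 ≤ n by omega) x u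
      rw [hx, hu, hcp.lcm_eq_mul] at hg
      have hcop : Nat.Coprime (r * p) (Fintype.card F - 1) :=
        Nat.Coprime.mul_left ((Nat.Prime.coprime_iff_not_dvd hr).2 fun h => h1 (hone.1 h))
          (char_coprime_sub_one p)
      obtain ⟨g', hg'⟩ := exists_SL_of_GL g (hg ▸ hcop)
      exact (mem_range_orderOf_mk_iff (coprime_card_center_SL (by omega) hcop)).2 ⟨g', hg'.trans hg⟩
  · rintro hcase ⟨x, hx⟩
    have ha : orderOf (x ^ r) = p := by
      rw [orderOf_pow' _ hr.ne_zero, hx, Nat.gcd_eq_right (Dvd.intro p rfl), Nat.mul_div_cancel_left _ hr.pos]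
    have hb : orderOf (x ^ p) = r := by
      rw [orderOf_pow' _ (Fact.out : p.Prime).ne_zero, hx, Nat.gcd_eq_right (Dvd.intro_left r rfl),
        Nat.mul_div_cancel _ (Fact.out : p.Prime).pos]
    obtain ⟨A, B, hA, hAa, hBb, hc⟩ := exists_lift_commuting
      (coprime_card_center_SL (show 1 ≤ n by omega) (char_coprime_sub_one p (F := F)))
      (ha ▸ pow_orderOf_eq_one (x ^ r)) (Commute.pow_pow_self x r p)
    have hA1 : A ≠ 1 := fun e => (Fact.out : p.Prime).ne_one
      (by rw [← ha, ← hAa, e, QuotientGroup.mk_one, orderOf_one])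
    rw [← hBb] at hb
    by_cases h1 : k = 1
    · have hcenter := no_split_pair p hr hrp (by
        rcases hcase with h | h
        · exact Or.inl (by omega)
        · exact Or.inr ⟨h.1, h.2.1, h.2.2.2⟩) hA hA1 hc (by
        rw [← QuotientGroup.eq_one_iff, QuotientGroup.mk_pow, ← hb, pow_orderOf_eq_one])
      rw [(QuotientGroup.eq_one_iff B).2 hcenter, orderOf_one] at hb
      exact hr.one_lt.ne hb
    · have hbd := commuting_orbit_bound p (show 0 < n by omega) hr hrp hA hA1 hc
        ((dvd_of_eq hb.symm).trans (orderOf_map_dvd (QuotientGroup.mk' _) B))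
      rw [← hk] at hbd
      rcases hcase with h | ⟨-, rfl, h, -⟩
      · omega
      · exact h1 (hone.1 h)

end CfsgLib.Classical.EigenOrbit
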