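import Cfsg.Agent.Lib.Classical.EigenOrbit.Linear
import Cfsg.Agent.Lib.Classical.Unitary.Two

/-!
# Primes of centralisers of elements of order `p` in `PSU`
-/

set_option autoImplicit false
set_option maxHeartbeats 800000

namespace CfsgLib.Classical.EigenOrbit

open scoped Matrix
open CfsgLib.Classical.Herm

variable {F : Type*} [Field F] [Fintype F] {m q : ℕ}

/-- The matrix of an element of `SU`. -/
def suMat (m : ℕ) (F : Type*) [Field F] (q : ℕ) : Cfsg.SU m F q →* Matrix (Fin m) (Fin m) F :=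
  { toFun := fun g => ((g : Matrix.SpecialLinearGroup (Fin m) F) : Matrix (Fin m) (Fin m) F)
    map_one' := rfl
    map_mul' := fun _ _ => rfl }

omit [Fintype F] in
theorem suMat_injective : Function.Injective (suMat m F q) := fun _ _ h =>
  Subtype.ext (Subtype.ext h)

omit [Fintype F] in
theorem transpose_mul_map (hq : q ≠ 0) (σ : F →+* F) (hσ : ∀ c, σ c = c ^ q) (g : Cfsg.SU m F q) :
    (suMat m F q g)ᵀ * (suMat m F q g).map σ = 1 := by
  classical
  ext i j
  have h := g.2 (Pi.single i 1) (Pi.single j 1)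
  have e : ∀ l : Fin m, (Pi.single i (1 : F) : Fin m → F) l * (Pi.single j (1 : F) : Fin m → F) l ^ q =
      if l = i then (if l = j then 1 else 0) else 0 := by
    intro l
    by_cases h1 : l = i <;> by_cases h2 : l = j <;> simp [h1, h2, hq, Pi.single_apply]
  rw [Cfsg.hermForm, Cfsg.hermForm, Finset.sum_congr rfl fun l _ => e l,
    Finset.sum_ite_eq' Finset.univ i] at h
  simp only [Matrix.mulVec_single_one, Finset.mem_univ, if_true] at h
  rw [Matrix.mul_apply, Matrix.one_apply]
  simp only [Matrix.transpose_apply, Matrix.map_apply, hσ]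
  exact h

variable (p : ℕ) [Fact p.Prime] [CharP F p]

include p in
/-- The eigenvalues of a unitary matrix are stable under `-q`. -/
theorem stableUnder_SU (hF : Fintype.card F = q ^ 2) (hqp : ∃ b, q = p ^ b) {N : ℕ}
    {g : Cfsg.SU m F q} (hN : (N : F) ≠ 0) (hM : suMat m F q g ^ N = 1) {r : ℕ} [NeZero r]
    (h : Nat.Coprime q r) :
    StableUnder (ev (suMat m F q g)) r {-ZMod.unitOfCoprime q h} := by
  rintro t rfl
  obtain ⟨φ, hφ⟩ := exists_frob_hom p q hqp (F := F)
  have hN0 : N ≠ 0 := by rintro rfl; exact hN Nat.cast_zero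
  have hq0 : q ≠ 0 := by have := two_le_of_card_sq hF; omega
  set M := suMat m F q g
  have hl : Mᵀ ^ (N - 1) * Mᵀ = 1 := by
    rw [← pow_succ, Nat.sub_add_cancel (Nat.pos_of_ne_zero hN0), ← Matrix.transpose_pow, hM,
      Matrix.transpose_one]
  have he : M.map (powHom hF) = (M ^ (N - 1))ᵀ := by
    rw [Matrix.transpose_pow]
    exact (left_inv_eq_right_inv hl (transpose_mul_map hq0 _ (powHom_apply hF) g)).symm
  have h1 : (ev M).map φ = (ev M).map (· ^ (N - 1)) := by
    rw [← ev_map hN hM (powHom hF) φ (fun c => by rw [hφ, powHom_apply, map_pow]), he, ev_transpose,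
      ev_pow hN hM]
  refine ⟨fun x => (φ x)⁻¹, inv_injective.comp φ.injective, ?_, fun y hy => ?_⟩
  · show (ev M).map ((·⁻¹) ∘ φ) = ev M
    rw [← Multiset.map_map, h1, Multiset.map_map]
    refine (Multiset.map_congr rfl fun x hx => ?_).trans (Multiset.map_id _)
    show (x ^ (N - 1))⁻¹ = x
    refine inv_eq_of_mul_eq_one_right ?_
    rw [← pow_succ, Nat.sub_add_cancel (Nat.pos_of_ne_zero hN0), root_pow_ev hN hM hM hx]
  · refine inv_eq_of_mul_eq_one_left ?_
    rw [hφ, ← pow_add]
    refine (pow_eq_pow_of_cast_eq hy (b := 0) ?_).trans (pow_zero y)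
    push_cast [ZMod.natCast_zmod_val]
    simp [ZMod.coe_unitOfCoprime]

include p in
theorem dvd_card_SU (hF : Fintype.card F = q ^ 2) {n i r : ℕ} (hi0 : i ≠ 0) (hi : i < n)
    (h : r ∣ if Even i then q ^ (i + 1) + 1 else q ^ (i + 1) - 1) :
    r ∣ Nat.card (Cfsg.SU n F q) := by
  have h1 : ∏ l ∈ ({0, i} : Finset ℕ), (if Even l then q ^ (l + 1) + 1 else q ^ (l + 1) - 1) ∣
      ∏ l ∈ Finset.range n, (if Even l then q ^ (l + 1) + 1 else q ^ (l + 1) - 1) := by
    refine Finset.prod_dvd_prod_of_subset _ _ _ fun l hl => ?_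
    simp only [Finset.mem_insert, Finset.mem_singleton] at hl
    rw [Finset.mem_range]
    omega
  rw [Finset.prod_pair (Ne.symm hi0)] at h1
  simp only [Even.zero, if_true, zero_add, pow_one] at h1
  refine Nat.dvd_of_mul_dvd_mul_left (Nat.succ_pos q) ?_
  rw [card_SU hF n (by omega)]
  exact ((mul_dvd_mul_left _ h).trans h1).trans (dvd_mul_left _ _)

include p in
/-- Primes of elements commuting with an element of order `p`. -/
theorem psu_commuting_primes (hm : 4 ≤ m) (hF : Fintype.card F = q ^ 2)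
    (a b : Cfsg.PSU m F q) (ha : orderOf a = p) (hab : Commute a b) :
    (orderOf b).primeFactors ⊆ (Nat.card ↥(Cfsg.SU (m - 2) F q)).primeFactors := by
  classical
  intro r hr
  obtain ⟨hr', hrb, -⟩ := Nat.mem_primeFactors.1 hr
  refine Nat.mem_primeFactors.2 ⟨hr', ?_, Nat.card_pos.ne'⟩
  haveI : Fact r.Prime := ⟨hr'⟩
  haveI : NeZero r := ⟨hr'.ne_zero⟩
  have hq2 := two_le_of_card_sq hF
  obtain ⟨e, he⟩ := exists_card_eq_pow p (F := F)
  obtain ⟨f, -, hqf⟩ := (Nat.dvd_prime_pow (Fact.out : p.Prime)).1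
    (show q ∣ p ^ e from he ▸ hF ▸ dvd_pow_self q two_ne_zero)
  have hf : f ≠ 0 := by rintro rfl; rw [pow_zero] at hqf; omega
  have hpq : p ∣ q := hqf ▸ dvd_pow_self p hf
  have hp1 : Nat.Coprime p (q + 1) := (Nat.Prime.coprime_iff_not_dvd Fact.out).2 fun h =>
    (Fact.out : p.Prime).not_dvd_one (by simpa using Nat.dvd_sub h hpq)
  by_cases hrp : r = p
  · subst hrp
    refine hp1.dvd_of_dvd_mul_left ?_
    rw [card_SU hF (m - 2) (by omega)]
    refine dvd_mul_of_dvd_left (hpq.trans (dvd_pow_self q ?_)) _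
    have : 2 * 1 ≤ (m - 2) * (m - 2 - 1) := Nat.mul_le_mul (by omega) (by omega)
    omega
  obtain ⟨A, B, hA, rfl, rfl, hc⟩ := exists_lift_commuting
    (show Nat.Coprime p (Nat.card (Subgroup.center (Cfsg.SU m F q))) by
      rw [card_center_SU' hF m (by omega)]; exact hp1.coprime_dvd_right (Nat.gcd_dvd_right _ _))
    (ha ▸ pow_orderOf_eq_one a) hab
  have hA1 : A ≠ 1 := fun h => (Fact.out : p.Prime).ne_one (by rw [← ha, h, QuotientGroup.mk_one, orderOf_one])
  obtain ⟨c, hcB⟩ : r ∣ orderOf B := hrb.trans (orderOf_map_dvd (QuotientGroup.mk' _) B)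
  have h0 := orderOf_pos B
  have hC : orderOf (suMat m F q (B ^ c)) = r := by
    rw [orderOf_injective _ suMat_injective, orderOf_pow' _ (by rintro rfl; omega), hcB,
      Nat.gcd_eq_right (Dvd.intro_left r rfl), Nat.mul_div_cancel _ (Nat.pos_of_ne_zero (by rintro rfl; omega))]
  set M := suMat m F q (B ^ c) with hMdef
  have hM : M ^ r = 1 := hC ▸ pow_orderOf_eq_one M
  have hN := cast_ne_zero_of_not_dvd p (not_dvd_prime p hr' hrp) (F := F)
  have hcop : Nat.Coprime q r := by
    rw [hqf]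
    exact Nat.Coprime.pow_left f ((Nat.coprime_primes Fact.out hr').2 (Ne.symm hrp))
  haveI : Nonempty (Fin m) := ⟨⟨0, by omega⟩⟩
  have hU : IsNilpotent (suMat m F q A - 1) := ⟨p, by
    rw [sub_pow_char_of_commute p (Commute.one_right _), one_pow, ← map_pow, hA, map_one, sub_self]⟩
  have hU0 : suMat m F q A - 1 ≠ 0 := sub_ne_zero.2 fun h =>
    hA1 (suMat_injective (by rw [h, map_one]))
  have hcm : Commute M (suMat m F q A - 1) :=
    Commute.sub_right ((hc.symm.pow_left c).map (suMat m F q)) (Commute.one_right _)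
  have hb := card_closure_bound hr' ((card_ev M).trans (Fintype.card_fin m))
    (fun x hx => root_pow_ev hN hM hM hx)
    (exists_ev_ne_one hN hM fun h => hr'.one_lt.ne' (by rw [← hC, h, orderOf_one]))
    (not_nodup_ev hN hM hcm hU hU0) (stableUnder_SU p hF ⟨f, hqf⟩ hN hM hcop)
  rw [← Subgroup.zpowers_eq_closure, Nat.card_zpowers] at hb
  set o := orderOf (-ZMod.unitOfCoprime q hcop) with ho
  have ho0 : 0 < o := orderOf_pos _
  have hcast : (-(q : ZMod r)) ^ o = 1 := by
    have := congrArg (fun u : (ZMod r)ˣ => (u : ZMod r)) (pow_orderOf_eq_one (-ZMod.unitOfCoprime q hcop))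
    simpa [← ho, ZMod.coe_unitOfCoprime] using this
  have hdiv : r ∣ if Even (o - 1) then q ^ (o - 1 + 1) + 1 else q ^ (o - 1 + 1) - 1 := by
    rw [Nat.sub_add_cancel ho0, ← ZMod.natCast_eq_zero_iff]
    split_ifs with hev
    · have hodd : Odd o := ⟨(o - 1) / 2, by obtain ⟨j, hj⟩ := hev; omega⟩
      rw [hodd.neg_pow] at hcast
      rw [Nat.cast_add, Nat.cast_pow, Nat.cast_one]
      linear_combination -hcast
    · have heven : Even o := by
        obtain ⟨j, hj⟩ := Nat.not_even_iff_odd.1 hev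
        exact ⟨j + 1, by omega⟩
      rw [heven.neg_pow] at hcast
      rw [Nat.cast_sub (Nat.one_le_pow _ _ (by omega)), Nat.cast_pow, Nat.cast_one, hcast, sub_self]
  by_cases h1 : o = 1
  · refine dvd_card_SU p hF one_ne_zero (show 1 < m - 2 by omega) ?_
    rw [h1] at hdiv
    simp only [Nat.sub_self, Even.zero, if_true, zero_add, pow_one] at hdiv
    rw [if_neg Nat.not_even_one, show (1 : ℕ) + 1 = 2 from rfl, ← one_pow 2, Nat.sq_sub_sq]
    exact hdiv.mul_right _
  · exact dvd_card_SU p hF (show o - 1 ≠ 0 by omega) (by omega) hdiv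

end CfsgLib.Classical.EigenOrbit
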