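import Cfsg.Agent.Lib.Classical.EigenOrbit.Linear
import Cfsg.Agent.Lib.Classical.HomocyclicSylow
import Cfsg.Agent.Lib.Classical.Symplectic.MatrixStructure

/-!
# Adjacency in the prime graph of `PSp`
-/

set_option autoImplicit false
set_option maxHeartbeats 800000

namespace CfsgLib.Classical.EigenOrbit

open scoped Matrix

variable {F : Type*} [Field F] [Fintype F]

omit [Fintype F] in
theorem orderOf_coe_Sp {n : ℕ} (g : Matrix.symplecticGroup (Fin n) F) :
    orderOf (g : Matrix (Fin n ⊕ Fin n) (Fin n ⊕ Fin n) F) = orderOf g :=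
  orderOf_injective (Matrix.symplecticGroup (Fin n) F).subtype Subtype.val_injective g

omit [Fintype F] in
/-- The inverse of a symplectic matrix has the same eigenvalues. -/
theorem ev_inverse_Sp {n N : ℕ} (hN0 : N ≠ 0) {A : Matrix.symplecticGroup (Fin n) F}
    (hA : (A : Matrix (Fin n ⊕ Fin n) (Fin n ⊕ Fin n) F) ^ N = 1) :
    ev ((A : Matrix (Fin n ⊕ Fin n) (Fin n ⊕ Fin n) F) ^ (N - 1)) =
      ev (A : Matrix (Fin n ⊕ Fin n) (Fin n ⊕ Fin n) F) := by
  set M := (A : Matrix (Fin n ⊕ Fin n) (Fin n ⊕ Fin n) F) with hMdef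
  let Ju : (Matrix (Fin n ⊕ Fin n) (Fin n ⊕ Fin n) F)ˣ :=
    { val := Matrix.J (Fin n) F
      inv := - Matrix.J (Fin n) F
      val_inv := by rw [mul_neg, Matrix.J_squared, neg_neg]
      inv_val := by rw [neg_mul, Matrix.J_squared, neg_neg] }
  have hl : (-(Matrix.J (Fin n) F) * Mᵀ * Matrix.J (Fin n) F) * M = 1 := by
    rw [neg_mul, neg_mul, neg_mul]
    exact SymplecticGroup.inv_left_mul_aux A.2
  have hr : M * M ^ (N - 1) = 1 := by
    rw [← pow_succ', Nat.sub_add_cancel (Nat.pos_of_ne_zero hN0), hA]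
  have he : M ^ (N - 1) = ((Ju⁻¹ : (Matrix (Fin n ⊕ Fin n) (Fin n ⊕ Fin n) F)ˣ) :
      Matrix (Fin n ⊕ Fin n) (Fin n ⊕ Fin n) F) * Mᵀ * (Ju : Matrix (Fin n ⊕ Fin n) (Fin n ⊕ Fin n) F) :=
    (left_inv_eq_right_inv hl hr).symm
  have hcp : (M ^ (N - 1)).charpoly = M.charpoly := by
    rw [he, Matrix.coe_units_inv, Matrix.charpoly_units_conj', Matrix.charpoly_transpose]
  unfold ev
  rw [Matrix.charpoly_map, Matrix.charpoly_map, hcp]

/-- The pairing of two symplectic groups on orthogonal summands. -/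
theorem exists_sum_hom_Sp (a b n : ℕ) (h : a + b ≤ n) :
    ∃ φ : Matrix.symplecticGroup (Fin a) F × Matrix.symplecticGroup (Fin b) F →*
      Matrix.symplecticGroup (Fin n) F, Function.Injective φ := by
  classical
  let X := Fin a ⊕ Fin a → F
  let Y := Fin b ⊕ Fin b → F
  let Z := Fin (n - (a + b)) ⊕ Fin (n - (a + b)) → F
  let B : LinearMap.BilinForm F (X × Y × Z) :=
    (Symp.sympBil a F).compl₁₂ (LinearMap.fst F X (Y × Z)) (LinearMap.fst F X (Y × Z)) +
    (Symp.sympBil b F).compl₁₂ ((LinearMap.fst F Y Z).comp (LinearMap.snd F X (Y × Z)))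
      ((LinearMap.fst F Y Z).comp (LinearMap.snd F X (Y × Z))) +
    (Symp.sympBil (n - (a + b)) F).compl₁₂ ((LinearMap.snd F Y Z).comp (LinearMap.snd F X (Y × Z)))
      ((LinearMap.snd F Y Z).comp (LinearMap.snd F X (Y × Z)))
  have hB : ∀ u v, B u v = Symp.sympBil a F u.1 v.1 + Symp.sympBil b F u.2.1 v.2.1 +
      Symp.sympBil (n - (a + b)) F u.2.2 v.2.2 := fun u v => rfl
  have halt : B.IsAlt := fun u => by
    rw [hB, Symp.sympBil_isAlt a F, Symp.sympBil_isAlt b F, Symp.sympBil_isAlt _ F, add_zero, add_zero]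
  have hnd : ∀ u, (∀ v, B u v = 0) → u = 0 := fun u hu =>
    Prod.ext ((Symp.sympBil_nondegenerate a F).1 u.1 fun w => by simpa [hB] using hu (w, 0, 0))
      (Prod.ext ((Symp.sympBil_nondegenerate b F).1 u.2.1 fun w => by simpa [hB] using hu (0, w, 0))
        ((Symp.sympBil_nondegenerate _ F).1 u.2.2 fun w => by simpa [hB] using hu (0, 0, w)))
  let ρ : Matrix.symplecticGroup (Fin a) F × Matrix.symplecticGroup (Fin b) F →*
      ((X × Y × Z) ≃ₗ[F] (X × Y × Z)) :=
    { toFun := fun g => (Symp.symplecticEquiv a F g.1).1.prodCongr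
        ((Symp.symplecticEquiv b F g.2).1.prodCongr (LinearEquiv.refl F Z))
      map_one' := by ext v <;> simp
      map_mul' := fun g g' => by ext v <;> simp }
  refine CfsgLib.Known.FieldExtension.exists_hom_symplectic B halt
    ⟨hnd, fun u hu => hnd u fun v => neg_eq_zero.1 ((LinearMap.IsAlt.neg halt u v).trans (hu v))⟩ ?_ ρ ?_ ?_
  · rw [Module.finrank_prod, Module.finrank_prod, Symp.finrank_sympSpace, Symp.finrank_sympSpace,
      Symp.finrank_sympSpace]
    omega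
  · intro g g' hg
    refine Prod.ext ((Symp.symplecticEquiv a F).injective (Subtype.ext (LinearEquiv.ext fun x => ?_)))
      ((Symp.symplecticEquiv b F).injective (Subtype.ext (LinearEquiv.ext fun x => ?_)))
    · simpa [ρ] using congrArg Prod.fst (LinearEquiv.congr_fun hg (x, 0, 0))
    · simpa [ρ] using congrArg (fun u => u.2.1) (LinearEquiv.congr_fun hg (0, x, 0))
  · intro g u v
    rw [hB, hB]
    simp only [ρ, MonoidHom.coe_mk, OneHom.coe_mk, LinearEquiv.prodCongr_apply, LinearEquiv.refl_apply]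
    exact congrArg (· + _) (congrArg₂ (· + ·) ((Symp.symplecticEquiv a F g.1).2 u.1 v.1)
      ((Symp.symplecticEquiv b F g.2).2 u.2.1 v.2.1))

theorem exists_orderOf_pair_Sp {a b n : ℕ} (h : a + b ≤ n) (x : Matrix.symplecticGroup (Fin a) F)
    (y : Matrix.symplecticGroup (Fin b) F) :
    ∃ g : Matrix.symplecticGroup (Fin n) F, orderOf g = Nat.lcm (orderOf x) (orderOf y) := by
  obtain ⟨φ, hφ⟩ := exists_sum_hom_Sp (F := F) a b n h
  exact ⟨φ (x, y), by rw [orderOf_injective φ hφ, Prod.orderOf_mk]⟩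

/-- Cyclic tori of orders dividing `q ^ η - 1` and `q ^ η + 1`. -/
theorem exists_orderOf_torus {η n N : ℕ} (hη : 1 ≤ η) (hn : η ≤ n)
    (h : N ∣ Fintype.card F ^ η - 1 ∨ N ∣ Fintype.card F ^ η + 1) :
    ∃ g : Matrix.symplecticGroup (Fin n) F, orderOf g = N := by
  obtain ⟨x, hx⟩ : ∃ x : Matrix.symplecticGroup (Fin η) F, orderOf x = N := by
    rcases h with h | h
    · obtain ⟨g, hg⟩ := Known.GLOrders.exists_orderOf_eq_of_dvd (F := F) (n := η) hη le_rfl h
      obtain ⟨φ, hφ⟩ := Homocyclic.exists_levi (F := F) η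
      exact ⟨φ g, by rw [orderOf_injective φ hφ, hg]⟩
    · obtain ⟨φ, hφ⟩ := Homocyclic.exists_hom_Sp_even (F := F) η η hη h
      haveI : Nonempty (Fin (η / η)) := ⟨⟨0, by rw [Nat.div_self hη]; exact one_pos⟩⟩
      refine ⟨φ (Pi.monoidHom (fun _ => MonoidHom.id _) (Multiplicative.ofAdd (1 : ZMod N))), ?_⟩
      rw [orderOf_injective φ hφ, orderOf_injective _ fun c d hcd => congrFun hcd (Classical.arbitrary _),
        orderOf_ofAdd_eq_addOrderOf, ZMod.addOrderOf_one]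
  obtain ⟨g, hg⟩ := exists_orderOf_pair_Sp (b := 0) (n := n) (show η + 0 ≤ n by omega) x 1
  exact ⟨g, by rw [hg, hx, orderOf_one, Nat.lcm_one_right]⟩

theorem dvd_pow_eta {r k η : ℕ} [Fact r.Prime] (hr2 : r ≠ 2)
    (hk : k = orderOf ((Fintype.card F : ℕ) : ZMod r)) (hη : (Odd k ∧ η = k) ∨ (Even k ∧ 2 * η = k))
    (hk0 : 0 < k) :
    (Odd k ∧ r ∣ Fintype.card F ^ η - 1) ∨ (Even k ∧ r ∣ Fintype.card F ^ η + 1) := by
  rcases hη with ⟨ho, rfl⟩ | ⟨he, h2⟩
  · refine Or.inl ⟨ho, ?_⟩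
    rw [← ZMod.natCast_eq_zero_iff, Nat.cast_sub (Nat.one_le_pow _ _ Fintype.card_pos), Nat.cast_pow,
      hk, pow_orderOf_eq_one, Nat.cast_one, sub_self]
  · refine Or.inr ⟨he, ?_⟩
    rw [← ZMod.natCast_eq_zero_iff, Nat.cast_add, Nat.cast_pow, show η = k / 2 by omega,
      exists_neg_one_pow hr2 hk he hk0, Nat.cast_one, neg_add_cancel]

/-- One cyclic torus contains both primes when the quotient is odd. -/
theorem dvd_pow_eta_of_odd_quot {r s k l t ηk ηl : ℕ} [Fact r.Prime] [Fact s.Prime] (hr2 : r ≠ 2)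
    (hs2 : s ≠ 2) (hrs : Nat.Coprime r s) (hk : k = orderOf ((Fintype.card F : ℕ) : ZMod r))
    (hl : l = orderOf ((Fintype.card F : ℕ) : ZMod s))
    (hηk : (Odd k ∧ ηk = k) ∨ (Even k ∧ 2 * ηk = k)) (hηl : (Odd l ∧ ηl = l) ∨ (Even l ∧ 2 * ηl = l))
    (hk0 : 0 < k) (ht : Odd t) (hlk : l = k * t) :
    r * s ∣ Fintype.card F ^ ηl - 1 ∨ r * s ∣ Fintype.card F ^ ηl + 1 := by
  have hl0 : 0 < l := hlk ▸ Nat.mul_pos hk0 ht.pos
  have hη : ηl = ηk * t := by
    rcases hηk with ⟨ho, rfl⟩ | ⟨he, h2⟩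
    · rcases hηl with ⟨-, rfl⟩ | ⟨he', -⟩
      · exact hlk
      · exact absurd he' (Nat.not_even_iff_odd.2 (hlk ▸ ho.mul ht))
    · rcases hηl with ⟨ho', -⟩ | ⟨-, h2'⟩
      · exact absurd (hlk ▸ he.mul_right t) (Nat.not_even_iff_odd.2 ho')
      · refine Nat.eq_of_mul_eq_mul_left two_pos ?_
        rw [h2', hlk, ← h2, mul_assoc]
  rcases dvd_pow_eta hr2 hk hηk hk0 with ⟨ho, h1⟩ | ⟨he, h1⟩ <;>
    rcases dvd_pow_eta hs2 hl hηl hl0 with ⟨ho', h2⟩ | ⟨he', h2⟩
  · left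
    refine hrs.mul_dvd_of_dvd_of_dvd (h1.trans ?_) h2
    rw [hη, pow_mul]
    exact Nat.sub_one_dvd_pow_sub_one _ _
  · exact absurd he' (Nat.not_even_iff_odd.2 (hlk ▸ ho.mul ht))
  · exact absurd (hlk ▸ he.mul_right t) (Nat.not_even_iff_odd.2 ho')
  · right
    refine hrs.mul_dvd_of_dvd_of_dvd (h1.trans ?_) h2
    rw [hη, pow_mul]
    simpa using ht.nat_add_dvd_pow_add_pow (Fintype.card F ^ ηk) 1

variable (p : ℕ) [Fact p.Prime] [CharP F p]

include p in
/-- The eigenvalues of a symplectic matrix are stable under `q` and `-1`. -/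
theorem stableUnder_Sp {n N : ℕ} {A : Matrix.symplecticGroup (Fin n) F} (hN : (N : F) ≠ 0)
    (hA : (A : Matrix (Fin n ⊕ Fin n) (Fin n ⊕ Fin n) F) ^ N = 1) {m : ℕ} [NeZero m]
    (h : Nat.Coprime (Fintype.card F) m) :
    StableUnder (ev (A : Matrix (Fin n ⊕ Fin n) (Fin n ⊕ Fin n) F)) m
      {ZMod.unitOfCoprime (Fintype.card F) h, -1} := by
  intro t ht
  rcases ht with rfl | ht
  · exact stableUnder_frob p hN hA h _ (Set.mem_singleton _)
  · rw [Set.mem_singleton_iff] at ht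
    subst ht
    refine ⟨(·⁻¹), inv_injective, ev_map_inv hN hA
      (ev_inverse_Sp (by rintro rfl; exact hN Nat.cast_zero) hA), fun y hy => ?_⟩
    refine inv_eq_of_mul_eq_one_left ?_
    rw [← pow_succ]
    refine (pow_eq_pow_of_cast_eq hy (b := 0) ?_).trans (pow_zero y)
    push_cast [ZMod.natCast_zmod_val]
    simp

omit [Fintype F] in
theorem card_sum_fin (n : ℕ) : Fintype.card (Fin n ⊕ Fin n) = 2 * n := by
  rw [Fintype.card_sum, Fintype.card_fin, two_mul]

include p in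
theorem orbit_le_Sp {n r k η : ℕ} [Fact r.Prime] (hr2 : r ≠ 2) (hrp : r ≠ p)
    {A : Matrix.symplecticGroup (Fin n) F} (hA : orderOf A = r)
    (hk : k = orderOf ((Fintype.card F : ℕ) : ZMod r)) (hη : (Odd k ∧ η = k) ∨ (Even k ∧ 2 * η = k)) :
    η ≤ n := by
  classical
  have hr : r.Prime := Fact.out
  haveI : NeZero r := ⟨hr.ne_zero⟩
  set M := (A : Matrix (Fin n ⊕ Fin n) (Fin n ⊕ Fin n) F)
  have hMo : orderOf M = r := (orderOf_coe_Sp A).trans hA
  have hM : M ^ r = 1 := hMo ▸ pow_orderOf_eq_one M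
  have hN := cast_ne_zero_of_not_dvd p (not_dvd_prime p hr hrp) (F := F)
  have hq := coprime_card p (not_dvd_prime p hr hrp) (F := F)
  obtain ⟨x, hx, hx1⟩ := exists_ev_ne_one hN hM
    (fun e => hr.one_lt.ne' (by rw [← hMo, e, orderOf_one]))
  have h1 := card_closure_le ((card_ev M).trans (card_sum_fin n)) hx
    (orderOf_eq_prime (root_pow_ev hN hM hM hx) hx1) (stableUnder_Sp p hN hM hq)
  have h2 := Nat.le_of_dvd Nat.card_pos (two_eta_dvd_card hr2 hq hk hη
    (T := {ZMod.unitOfCoprime (Fintype.card F) hq, -1}) (Set.mem_insert _ _) (Set.mem_insert_of_mem _ rfl))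
  omega

theorem coprime_center_Sp {n m : ℕ} (hn : 1 ≤ n) (h : Nat.Coprime m (Nat.gcd 2 (Fintype.card F - 1))) :
    Nat.Coprime m (Nat.card (Subgroup.center (Matrix.symplecticGroup (Fin n) F))) := by
  rwa [Symp.card_center_symplecticGroup hn]

include p in
/-- Adjacency of two odd primes different from the characteristic. -/
theorem psp_adjacent_iff (n : ℕ) (hn : 2 ≤ n) (r s : ℕ) (hr : r.Prime) (hs : s.Prime) (hr2 : r ≠ 2)
    (hs2 : s ≠ 2) (hrp : r ≠ p) (hsp : s ≠ p) (hrs : r ≠ s) (hsG : s ∣ Nat.card (Cfsg.PSp n F))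
    (k l ηk ηl : ℕ) (hk : k = orderOf ((Fintype.card F : ℕ) : ZMod r))
    (hl : l = orderOf ((Fintype.card F : ℕ) : ZMod s))
    (hηk : (Odd k ∧ ηk = k) ∨ (Even k ∧ 2 * ηk = k)) (hηl : (Odd l ∧ ηl = l) ∨ (Even l ∧ 2 * ηl = l))
    (hkl : ηk ≤ ηl) :
    (r * s ∉ Set.range (orderOf : Cfsg.PSp n F → ℕ)) ↔ (n < ηk + ηl ∧ ¬ ∃ t : ℕ, Odd t ∧ l = k * t) := by
  classical
  haveI : Fact r.Prime := ⟨hr⟩
  haveI : Fact s.Prime := ⟨hs⟩
  haveI : NeZero r := ⟨hr.ne_zero⟩
  haveI : NeZero s := ⟨hs.ne_zero⟩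
  haveI : NeZero (r * s) := ⟨mul_ne_zero hr.ne_zero hs.ne_zero⟩
  have hp : ¬ p ∣ r * s := fun h => (Nat.Prime.dvd_mul Fact.out).1 h |>.elim
    (not_dvd_prime p hr hrp) (not_dvd_prime p hs hsp)
  have hqr := coprime_card p (not_dvd_prime p hr hrp) (F := F)
  have hqs := coprime_card p (not_dvd_prime p hs hsp) (F := F)
  have hk0 : 0 < k := hk ▸ orderOf_cast_pos hqr
  have hl0 : 0 < l := hl ▸ orderOf_cast_pos hqs
  have hrs' : Nat.Coprime r s := (Nat.coprime_primes hr hs).2 hrs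
  have hc : Nat.Coprime (r * s) (Nat.card (Subgroup.center (Matrix.symplecticGroup (Fin n) F))) :=
    coprime_center_Sp (by omega) (Nat.Coprime.coprime_dvd_right (Nat.gcd_dvd_left _ _)
      (Nat.Coprime.mul_left ((Nat.coprime_primes hr Nat.prime_two).2 hr2)
        ((Nat.coprime_primes hs Nat.prime_two).2 hs2)))
  rw [mem_range_orderOf_mk_iff hc]
  constructor
  · intro hno
    by_contra hcon
    refine hno ?_
    by_cases hdiv : ∃ t : ℕ, Odd t ∧ l = k * t
    · obtain ⟨t, ht, hlk⟩ := hdiv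
      obtain ⟨g, hg⟩ := exists_prime_orderOf_dvd_card' s
        (hsG.trans (Subgroup.card_quotient_dvd_card _) : s ∣ Nat.card (Matrix.symplecticGroup (Fin n) F))
      exact exists_orderOf_torus (by omega) (orbit_le_Sp p hs2 hsp hg hl hηl)
        (dvd_pow_eta_of_odd_quot hr2 hs2 hrs' hk hl hηk hηl hk0 ht hlk)
    · obtain ⟨x, hx⟩ := exists_orderOf_torus (F := F) (η := ηk) (n := ηk) (N := r) (by omega) le_rfl
        ((dvd_pow_eta hr2 hk hηk hk0).imp And.right And.right)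
      obtain ⟨y, hy⟩ := exists_orderOf_torus (F := F) (η := ηl) (n := ηl) (N := s) (by omega) le_rfl
        ((dvd_pow_eta hs2 hl hηl hl0).imp And.right And.right)
      obtain ⟨g, hg⟩ := exists_orderOf_pair_Sp (n := n)
        (show ηk + ηl ≤ n from not_lt.1 fun h => hcon ⟨h, hdiv⟩) x y
      exact ⟨g, by rw [hg, hx, hy, hrs'.lcm_eq_mul]⟩
  · rintro ⟨hn', hdiv⟩ ⟨g, hg⟩
    set M := (g : Matrix (Fin n ⊕ Fin n) (Fin n ⊕ Fin n) F)
    have hMo : orderOf M = r * s := (orderOf_coe_Sp g).trans hg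
    have hM : M ^ (r * s) = 1 := hMo ▸ pow_orderOf_eq_one M
    have hMr : M ^ r ≠ 1 := fun e => by
      have := Nat.le_of_dvd hr.pos (hMo ▸ orderOf_dvd_of_pow_eq_one e)
      nlinarith [hs.two_le, hr.pos]
    have hMs : M ^ s ≠ 1 := fun e => by
      have := Nat.le_of_dvd hs.pos (hMo ▸ orderOf_dvd_of_pow_eq_one e)
      nlinarith [hr.two_le, hs.pos]
    have hN := cast_ne_zero_of_not_dvd p hp (F := F)
    have hq := coprime_card p hp (F := F)
    rcases exists_root_orders hr hs hN hM hMr hMs with ⟨x, hx, hxo⟩ | ⟨⟨x, hx, hxo⟩, y, hy, hyo⟩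
    · have hle := card_closure_le ((card_ev M).trans (card_sum_fin n)) hx hxo (stableUnder_Sp p hN hM hq)
      have hds : s ∣ r * s := Dvd.intro_left r rfl
      refine hdiv (odd_quot_of_card_lt (b := 2 * ηl) hr2 hs2 hq hk hl
        {ZMod.unitOfCoprime (Fintype.card F) hq, -1} (Set.mem_insert _ _)
        (Set.mem_insert_of_mem _ rfl) ?_ (by omega))
      rw [MonoidHom.map_closure]
      refine Nat.le_of_dvd Nat.card_pos (two_eta_dvd_card hs2 hqs hl hηl ?_ ?_)
      · refine ⟨_, Set.mem_insert _ _, Units.ext ?_⟩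
        rw [ZMod.unitsMap_val, ZMod.coe_unitOfCoprime, ZMod.coe_unitOfCoprime, ZMod.cast_natCast hds]
      · refine ⟨-1, Set.mem_insert_of_mem _ rfl, Units.ext ?_⟩
        rw [ZMod.unitsMap_val, Units.val_neg, Units.val_one, Units.val_neg, Units.val_one,
          ZMod.cast_neg hds, ZMod.cast_one hds]
    · have := card_closure_add_le hrs ((card_ev M).trans (card_sum_fin n)) hx hxo hy hyo
        (stableUnder_Sp p hN hM hqr) (stableUnder_Sp p hN hM hqs)
      have e1 := Nat.le_of_dvd Nat.card_pos (two_eta_dvd_card hr2 hqr hk hηk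
        (T := {ZMod.unitOfCoprime (Fintype.card F) hqr, -1}) (Set.mem_insert _ _) (Set.mem_insert_of_mem _ rfl))
      have e2 := Nat.le_of_dvd Nat.card_pos (two_eta_dvd_card hs2 hqs hl hηl
        (T := {ZMod.unitOfCoprime (Fintype.card F) hqs, -1}) (Set.mem_insert _ _) (Set.mem_insert_of_mem _ rfl))
      omega

include p in
/-- Adjacency of an odd prime and the characteristic. -/
theorem psp_char_adjacent_iff (n : ℕ) (hn : 2 ≤ n) (r : ℕ) (hr : r.Prime) (hr2 : r ≠ 2) (hrp : r ≠ p)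
    (k ηk : ℕ) (hk : k = orderOf ((Fintype.card F : ℕ) : ZMod r))
    (hηk : (Odd k ∧ ηk = k) ∨ (Even k ∧ 2 * ηk = k)) :
    (r * p ∉ Set.range (orderOf : Cfsg.PSp n F → ℕ)) ↔ n - 1 < ηk := by
  classical
  haveI : Fact r.Prime := ⟨hr⟩
  haveI : NeZero r := ⟨hr.ne_zero⟩
  have hqr := coprime_card p (not_dvd_prime p hr hrp) (F := F)
  have hk0 : 0 < k := hk ▸ orderOf_cast_pos hqr
  have hcp : Nat.Coprime r p := (Nat.coprime_primes hr Fact.out).2 hrp
  obtain ⟨e, he⟩ := exists_card_eq_pow p (F := F)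
  have he0 : e ≠ 0 := by
    rintro rfl
    rw [pow_zero] at he
    exact (Fintype.one_lt_card (α := F)).ne' he
  have hpq : p ∣ Fintype.card F := he ▸ dvd_pow_self p he0
  have hp1 : Nat.Coprime p (Fintype.card F - 1) := by
    refine (Nat.Prime.coprime_iff_not_dvd Fact.out).2 fun h => ?_
    have h2 := Nat.dvd_sub hpq h
    rw [Nat.sub_sub_self Fintype.card_pos] at h2
    exact (Fact.out : p.Prime).not_dvd_one h2
  have hc : Nat.Coprime (r * p) (Nat.card (Subgroup.center (Matrix.symplecticGroup (Fin n) F))) :=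
    coprime_center_Sp (by omega) (Nat.Coprime.mul_left
      (((Nat.coprime_primes hr Nat.prime_two).2 hr2).coprime_dvd_right (Nat.gcd_dvd_left _ _))
      (hp1.coprime_dvd_right (Nat.gcd_dvd_right _ _)))
  rw [mem_range_orderOf_mk_iff hc]
  constructor
  · intro hno
    by_contra hle
    refine hno ?_
    obtain ⟨x, hx⟩ := exists_orderOf_torus (F := F) (η := ηk) (n := ηk) (N := r) (by omega) le_rfl
      ((dvd_pow_eta hr2 hk hηk hk0).imp And.right And.right)
    obtain ⟨y, hy⟩ : ∃ y : Matrix.symplecticGroup (Fin 1) F, orderOf y = p := by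
      refine exists_prime_orderOf_dvd_card' p ?_
      rw [Symp.card_symplecticGroup]
      exact dvd_mul_of_dvd_left (hpq.trans (dvd_pow_self _ (by norm_num))) _
    obtain ⟨g, hg⟩ := exists_orderOf_pair_Sp (n := n) (show ηk + 1 ≤ n by omega) x y
    exact ⟨g, by rw [hg, hx, hy, hcp.lcm_eq_mul]⟩
  · rintro hlt ⟨g, hg⟩
    haveI : Nonempty (Fin n ⊕ Fin n) := ⟨Sum.inl ⟨0, by omega⟩⟩
    set G := (g : Matrix (Fin n ⊕ Fin n) (Fin n ⊕ Fin n) F)
    have hGo : orderOf G = r * p := (orderOf_coe_Sp g).trans hg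
    let A : Matrix.symplecticGroup (Fin n) F := g ^ p
    have hAo : orderOf (A : Matrix (Fin n ⊕ Fin n) (Fin n ⊕ Fin n) F) = r := by
      show orderOf ((g ^ p : Matrix.symplecticGroup (Fin n) F) : Matrix (Fin n ⊕ Fin n) (Fin n ⊕ Fin n) F) = r
      rw [SubmonoidClass.coe_pow, orderOf_pow' _ (Fact.out : p.Prime).ne_zero, hGo,
        Nat.gcd_eq_right (Dvd.intro_left r rfl), Nat.mul_div_cancel _ (Fact.out : p.Prime).pos]
    have hN := cast_ne_zero_of_not_dvd p (not_dvd_prime p hr hrp) (F := F)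
    have hA : (A : Matrix (Fin n ⊕ Fin n) (Fin n ⊕ Fin n) F) ^ r = 1 := hAo ▸ pow_orderOf_eq_one _
    have hU : IsNilpotent (G ^ r - 1) := ⟨p, by
      rw [sub_pow_char_of_commute p (Commute.one_right _), one_pow, ← pow_mul, ← hGo, pow_orderOf_eq_one,
        sub_self]⟩
    have hU0 : G ^ r - 1 ≠ 0 := sub_ne_zero.2 fun h => by
      have := Nat.le_of_dvd hr.pos (hGo ▸ orderOf_dvd_of_pow_eq_one h)
      nlinarith [(Fact.out : p.Prime).two_le, hr.pos]
    have hcm : Commute (A : Matrix (Fin n ⊕ Fin n) (Fin n ⊕ Fin n) F) (G ^ r - 1) := by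
      refine Commute.sub_right ?_ (Commute.one_right _)
      show Commute ((g ^ p : Matrix.symplecticGroup (Fin n) F) : Matrix (Fin n ⊕ Fin n) (Fin n ⊕ Fin n) F) _
      rw [SubmonoidClass.coe_pow]
      exact Commute.pow_pow_self G p r
    have hb := card_closure_bound hr ((card_ev _).trans (card_sum_fin n))
      (fun x hx => root_pow_ev hN hA hA hx)
      (exists_ev_ne_one hN hA fun h => hr.one_lt.ne' (by rw [← hAo, h, orderOf_one]))
      (not_nodup_ev hN hA hcm hU hU0) (stableUnder_Sp p hN hA hqr)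
    have e1 := Nat.le_of_dvd Nat.card_pos (two_eta_dvd_card hr2 hqr hk hηk
      (T := {ZMod.unitOfCoprime (Fintype.card F) hqr, -1}) (Set.mem_insert _ _) (Set.mem_insert_of_mem _ rfl))
    omega

end CfsgLib.Classical.EigenOrbit
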